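import Mathlib
import Cfsg.Prelude.Def_Local
import Cfsg.Agent.Helper24.PLen

/-!
# The upper `p`-series and `p`-length: closure properties

`NChain p B n K`: a chain `B = K₀ ≤ K₁ ≤ ⋯ ≤ Kₙ = K` of subgroups, `K₁, …, Kₙ` normal, the index
`|Kᵢ₊₁ : Kᵢ|` prime to `p` for `i` even and a power of `p` for `i` odd.

Main results (`G` finite):
* `nchain_le_upper`: every such chain starting at `⊥` is dominated by the upper `p`-series;
* `pLengthLE_iff`: `PLengthLE p k G ↔ NChain p ⊥ (2k+1) ⊤`;
* `upper_characteristic`;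
* `pLengthLE_of_surjective`, `pLengthLE_subgroup`, `pLengthLE_of_coprime`, `pLengthLE_one_of_isPGroup`,
  `pLengthLE_mono`;
* `nchain_of_normal_pLengthLE`, `nchain_comap`, `nchain_concat` (extensions);
* `pLengthLE_quotient_upper_two` (shift).
-/

namespace Cfsg.Agent.Helper63
namespace PLen

open Cfsg

variable {G : Type*} [Group G]

/-- The type of the `n`-th factor: prime to `p` for even `n`, a power of `p` for odd `n`. -/
def Fac (p n a : ℕ) : Prop := if Even n then a.Coprime p else ∃ m : ℕ, a = p ^ m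

theorem fac_even {p n a : ℕ} (hn : Even n) : Fac p n a ↔ a.Coprime p := by
  unfold Fac; rw [if_pos hn]

theorem fac_odd {p n a : ℕ} (hn : ¬ Even n) : Fac p n a ↔ ∃ m : ℕ, a = p ^ m := by
  unfold Fac; rw [if_neg hn]

theorem fac_one (p n : ℕ) : Fac p n 1 := by
  by_cases hn : Even n
  · rw [fac_even hn]; exact Nat.coprime_one_left p
  · rw [fac_odd hn]; exact ⟨0, (pow_zero p).symm⟩

theorem fac_dvd {p n a b : ℕ} [hp : Fact p.Prime] (hab : a ∣ b) (h : Fac p n b) : Fac p n a := by
  by_cases hn : Even n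
  · rw [fac_even hn] at h ⊢; exact Nat.Coprime.coprime_dvd_left hab h
  · rw [fac_odd hn] at h ⊢
    obtain ⟨m, rfl⟩ := h
    obtain ⟨j, _, hj⟩ := (Nat.dvd_prime_pow hp.out).mp hab
    exact ⟨j, hj⟩

theorem fac_add_two_mul {p n a : ℕ} (c : ℕ) : Fac p (2 * c + n) a ↔ Fac p n a := by
  have : Even (2 * c + n) ↔ Even n := by
    rw [Nat.even_add]; simp
  unfold Fac
  by_cases hn : Even n
  · rw [if_pos hn, if_pos (this.mpr hn)]
  · rw [if_neg hn, if_neg (fun h => hn (this.mp h))]

theorem fac_add_two {p n a : ℕ} : Fac p (n + 2) a ↔ Fac p n a := by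
  have := fac_add_two_mul (p := p) (n := n) (a := a) 1
  rwa [show 2 * 1 + n = n + 2 by ring] at this

/-- Chains with alternating `p'` / `p` factors. -/
def NChain (p : ℕ) (B : Subgroup G) : ℕ → Subgroup G → Prop
  | 0, K => K = B
  | n + 1, K => ∃ H : Subgroup G, NChain p B n H ∧ H ≤ K ∧ K.Normal ∧ Fac p n (H.relIndex K)

theorem nchain_zero {p : ℕ} {B K : Subgroup G} : NChain p B 0 K ↔ K = B := Iff.rfl

theorem nchain_succ {p n : ℕ} {B K : Subgroup G} :
    NChain p B (n + 1) K ↔
      ∃ H : Subgroup G, NChain p B n H ∧ H ≤ K ∧ K.Normal ∧ Fac p n (H.relIndex K) := Iff.rfl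

theorem nchain_normal {p : ℕ} {B : Subgroup G} (hB : B.Normal) :
    ∀ {n : ℕ} {K : Subgroup G}, NChain p B n K → K.Normal
  | 0, K, h => by rw [nchain_zero.mp h]; exact hB
  | _ + 1, _, h => by obtain ⟨_, _, _, hK, _⟩ := nchain_succ.mp h; exact hK

theorem nchain_le {p : ℕ} {B : Subgroup G} :
    ∀ {n : ℕ} {K : Subgroup G}, NChain p B n K → B ≤ K
  | 0, K, h => by rw [nchain_zero.mp h]
  | _ + 1, _, h => by
    obtain ⟨H, hH, hHK, _, _⟩ := nchain_succ.mp h
    exact (nchain_le hH).trans hHK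

/-- Staying at `⊤`. -/
theorem nchain_top_succ {p n : ℕ} {B : Subgroup G} (h : NChain p B n ⊤) : NChain p B (n + 1) ⊤ :=
  nchain_succ.mpr ⟨⊤, h, le_rfl, inferInstance, by rw [Subgroup.relIndex_self]; exact fac_one p n⟩

theorem nchain_top_mono {p : ℕ} {B : Subgroup G} {n m : ℕ} (hnm : n ≤ m) (h : NChain p B n ⊤) :
    NChain p B m ⊤ := by
  induction m, hnm using Nat.le_induction with
  | base => exact h
  | succ m _ ih => exact nchain_top_succ ih

/-! ### Index lemmas -/

theorem relIndex_dvd_of_le_right_normal [Finite G] {H A B : Subgroup G} [H.Normal] (hAB : A ≤ B) :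
    H.relIndex A ∣ H.relIndex B := by
  have hA := Subgroup.relIndex_ker A (QuotientGroup.mk' H)
  have hB := Subgroup.relIndex_ker B (QuotientGroup.mk' H)
  rw [QuotientGroup.ker_mk'] at hA hB
  rw [hA, hB]
  exact Subgroup.card_dvd_of_le (Subgroup.map_mono hAB)

theorem relIndex_map_dvd {G' : Type*} [Group G'] (f : G →* G') {H K : Subgroup G}
    [H.Normal] (hHK : H ≤ K) : (H.map f).relIndex (K.map f) ∣ H.relIndex K := by
  rw [Subgroup.relIndex_map_map]
  have h1 : K ⊔ f.ker = K ⊔ (H ⊔ f.ker) := by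
    rw [← sup_assoc, sup_of_le_left hHK]
  rw [h1, Subgroup.relIndex_sup_right]
  exact Subgroup.relIndex_dvd_of_le_left K le_sup_left

theorem relIndex_comap_dvd [Finite G] {G₁ : Type*} [Group G₁] (f : G₁ →* G) {H K : Subgroup G}
    [H.Normal] : (H.comap f).relIndex (K.comap f) ∣ H.relIndex K := by
  rw [Subgroup.relIndex_comap]
  exact relIndex_dvd_of_le_right_normal (Subgroup.map_comap_le f K)

/-! ### Transport of chains -/

theorem nchain_map {G' : Type*} [Group G'] {p : ℕ} [Fact p.Prime] (f : G →* G')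
    (hf : Function.Surjective f) {B : Subgroup G} (hB : B.Normal) :
    ∀ {n : ℕ} {K : Subgroup G}, NChain p B n K → NChain p (B.map f) n (K.map f)
  | 0, K, h => by rw [nchain_zero.mp h]; exact nchain_zero.mpr rfl
  | n + 1, K, h => by
    obtain ⟨H, hH, hHK, hK, hfac⟩ := nchain_succ.mp h
    haveI := nchain_normal hB hH
    exact nchain_succ.mpr ⟨H.map f, nchain_map f hf hB hH, Subgroup.map_mono hHK, hK.map f hf,
      fac_dvd (relIndex_map_dvd f hHK) hfac⟩

theorem nchain_comap [Finite G] {G₁ : Type*} [Group G₁] {p : ℕ} [Fact p.Prime] (f : G₁ →* G)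
    {B : Subgroup G} (hB : B.Normal) :
    ∀ {n : ℕ} {K : Subgroup G}, NChain p B n K → NChain p (B.comap f) n (K.comap f)
  | 0, K, h => by rw [nchain_zero.mp h]; exact nchain_zero.mpr rfl
  | n + 1, K, h => by
    obtain ⟨H, hH, hHK, hK, hfac⟩ := nchain_succ.mp h
    haveI := nchain_normal hB hH
    exact nchain_succ.mpr ⟨H.comap f, nchain_comap f hB hH, Subgroup.comap_mono hHK, hK.comap f,
      fac_dvd (relIndex_comap_dvd f) hfac⟩

/-- Concatenation, merging the two adjacent `p'`-steps. -/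
theorem nchain_concat {p : ℕ} (a : ℕ) {N : Subgroup G} (hN : NChain p ⊥ (2 * a + 1) N) :
    ∀ {j : ℕ} {V : Subgroup G}, NChain p N (j + 1) V → NChain p ⊥ (2 * a + (j + 1)) V
  | 0, V, h => by
    obtain ⟨H, hH, hHV, hV, hfac⟩ := nchain_succ.mp h
    rw [nchain_zero.mp hH] at hHV hfac
    obtain ⟨H', hH', hH'N, _, hfac'⟩ := nchain_succ.mp hN
    refine nchain_succ.mpr ⟨H', hH', hH'N.trans hHV, hV, ?_⟩
    rw [← Subgroup.relIndex_mul_relIndex H' N V hH'N hHV]
    have e0 : Even 0 := ⟨0, rfl⟩
    have e2 : Even (2 * a) := ⟨a, by ring⟩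
    rw [fac_even e0] at hfac
    rw [fac_even e2] at hfac' ⊢
    exact Nat.Coprime.mul_left hfac' hfac
  | j + 1, V, h => by
    obtain ⟨H, hH, hHV, hV, hfac⟩ := nchain_succ.mp h
    have ih := nchain_concat a hN hH
    exact nchain_succ.mpr ⟨H, ih, hHV, hV, (fac_add_two_mul a).mpr hfac⟩

/-! ### The upper `p`-series -/

theorem upper_zero (p : ℕ) : (upperPSeries p G 0).1 = ⊥ := rfl

theorem upper_succ_even (p : ℕ) {n : ℕ} (hn : Even n) :
    (upperPSeries p G (n + 1)).1 =
      (pPrimeCore p (G ⧸ (upperPSeries p G n).1)).comap (QuotientGroup.mk' _) := by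
  show (if Even n then (⟨(pPrimeCore p (G ⧸ (upperPSeries p G n).1)).comap (QuotientGroup.mk' _),
    inferInstance⟩ : {H : Subgroup G // H.Normal}) else
    ⟨(pCore p (G ⧸ (upperPSeries p G n).1)).comap (QuotientGroup.mk' _), inferInstance⟩).1 = _
  rw [if_pos hn]

theorem upper_succ_odd (p : ℕ) {n : ℕ} (hn : ¬ Even n) :
    (upperPSeries p G (n + 1)).1 =
      (pCore p (G ⧸ (upperPSeries p G n).1)).comap (QuotientGroup.mk' _) := by
  show (if Even n then (⟨(pPrimeCore p (G ⧸ (upperPSeries p G n).1)).comap (QuotientGroup.mk' _),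
    inferInstance⟩ : {H : Subgroup G // H.Normal}) else
    ⟨(pCore p (G ⧸ (upperPSeries p G n).1)).comap (QuotientGroup.mk' _), inferInstance⟩).1 = _
  rw [if_neg hn]

theorem upper_le_succ (p n : ℕ) : (upperPSeries p G n).1 ≤ (upperPSeries p G (n + 1)).1 := by
  have h : ∀ S : Subgroup (G ⧸ (upperPSeries p G n).1),
      (upperPSeries p G n).1 ≤ S.comap (QuotientGroup.mk' _) := by
    intro S
    conv_lhs => rw [← QuotientGroup.ker_mk' (upperPSeries p G n).1]
    exact MonoidHom.ker_le_comap _ _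
  by_cases hn : Even n
  · rw [upper_succ_even p hn]; exact h _
  · rw [upper_succ_odd p hn]; exact h _

theorem relIndex_comap_mk [Finite G] (U : Subgroup G) [U.Normal] (S : Subgroup (G ⧸ U)) :
    U.relIndex (S.comap (QuotientGroup.mk' U)) = Nat.card S := by
  have h := Subgroup.relIndex_ker (S.comap (QuotientGroup.mk' U)) (QuotientGroup.mk' U)
  rw [QuotientGroup.ker_mk', Subgroup.map_comap_eq_self_of_surjective
    (QuotientGroup.mk'_surjective U)] at h
  exact h

theorem fac_upper [Finite G] (p : ℕ) [Fact p.Prime] (n : ℕ) :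
    Fac p n ((upperPSeries p G n).1.relIndex (upperPSeries p G (n + 1)).1) := by
  by_cases hn : Even n
  · rw [upper_succ_even p hn, relIndex_comap_mk, fac_even hn]
    exact Cfsg.Agent.Helper24.coprime_card_pPrimeCore p
  · rw [upper_succ_odd p hn, relIndex_comap_mk, fac_odd hn]
    exact (IsPGroup.iff_card).mp (Cfsg.Agent.Helper24.isPGroup_pCore p _)

theorem nchain_upper [Finite G] (p : ℕ) [Fact p.Prime] :
    ∀ n : ℕ, NChain p (⊥ : Subgroup G) n (upperPSeries p G n).1
  | 0 => nchain_zero.mpr rfl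
  | n + 1 => nchain_succ.mpr ⟨_, nchain_upper p n, upper_le_succ p n, inferInstance, fac_upper p n⟩

/-- Domination: any chain is below the upper `p`-series. -/
theorem nchain_le_upper [Finite G] (p : ℕ) [hp : Fact p.Prime] :
    ∀ {n : ℕ} {K : Subgroup G}, NChain p ⊥ n K → K ≤ (upperPSeries p G n).1
  | 0, K, h => by rw [nchain_zero.mp h]; exact bot_le
  | n + 1, K, h => by
    obtain ⟨H, hH, hHK, hK, hfac⟩ := nchain_succ.mp h
    have ih := nchain_le_upper p hH
    have hcard : Nat.card (K.map (QuotientGroup.mk' (upperPSeries p G n).1)) ∣ H.relIndex K := by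
      have h1 := Subgroup.relIndex_ker K (QuotientGroup.mk' (upperPSeries p G n).1)
      rw [QuotientGroup.ker_mk'] at h1
      rw [← h1]
      exact Subgroup.relIndex_dvd_of_le_left K ih
    have hnorm : (K.map (QuotientGroup.mk' (upperPSeries p G n).1)).Normal :=
      hK.map _ (QuotientGroup.mk'_surjective _)
    have hfac' := fac_dvd hcard hfac
    by_cases hn : Even n
    · rw [upper_succ_even p hn]
      rw [fac_even hn] at hfac'
      exact (Subgroup.le_comap_map _ K).trans
        (Subgroup.comap_mono (Cfsg.Agent.Helper24.le_pPrimeCore hnorm hfac'))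
    · rw [upper_succ_odd p hn]
      rw [fac_odd hn] at hfac'
      obtain ⟨m, hm⟩ := hfac'
      exact (Subgroup.le_comap_map _ K).trans
        (Subgroup.comap_mono (Cfsg.Agent.Helper24.le_pCore hnorm (IsPGroup.of_card hm)))

theorem pLengthLE_iff [Finite G] (p : ℕ) [Fact p.Prime] (k : ℕ) :
    PLengthLE p k G ↔ NChain p (⊥ : Subgroup G) (2 * k + 1) ⊤ := by
  constructor
  · intro h
    have := nchain_upper (G := G) p (2 * k + 1)
    rwa [show (upperPSeries p G (2 * k + 1)).1 = ⊤ from h] at this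
  · intro h
    exact top_le_iff.mp (nchain_le_upper p h)

theorem upper_characteristic [Finite G] (p : ℕ) [Fact p.Prime] (n : ℕ) :
    (upperPSeries p G n).1.Characteristic := by
  rw [Subgroup.characteristic_iff_map_le]
  intro φ
  have h := nchain_map (p := p) φ.toMonoidHom φ.surjective (inferInstance : (⊥ : Subgroup G).Normal)
    (nchain_upper (G := G) p n)
  rw [Subgroup.map_bot] at h
  exact nchain_le_upper p h

/-! ### Closure properties of `PLengthLE` -/

theorem pLengthLE_mono [Finite G] (p : ℕ) [Fact p.Prime] {k k' : ℕ} (hk : k ≤ k')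
    (h : PLengthLE p k G) : PLengthLE p k' G :=
  (pLengthLE_iff p k').mpr (nchain_top_mono (by omega) ((pLengthLE_iff p k).mp h))

theorem pLengthLE_of_surjective [Finite G] {G' : Type*} [Group G'] [Finite G'] (p : ℕ)
    [Fact p.Prime] (f : G →* G') (hf : Function.Surjective f) {k : ℕ} (h : PLengthLE p k G) :
    PLengthLE p k G' := by
  rw [pLengthLE_iff] at h ⊢
  have h1 := nchain_map f hf (inferInstance : (⊥ : Subgroup G).Normal) h
  rwa [Subgroup.map_bot, Subgroup.map_top_of_surjective f hf] at h1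

theorem pLengthLE_subgroup [Finite G] (p : ℕ) [Fact p.Prime] (L : Subgroup G) {k : ℕ}
    (h : PLengthLE p k G) : PLengthLE p k L := by
  rw [pLengthLE_iff] at h ⊢
  have h1 := nchain_comap L.subtype (inferInstance : (⊥ : Subgroup G).Normal) h
  rwa [Subgroup.comap_top, MonoidHom.comap_bot, Subgroup.ker_subtype] at h1

theorem pLengthLE_of_coprime [Finite G] (p : ℕ) [Fact p.Prime] (h : (Nat.card G).Coprime p) :
    PLengthLE p 0 G := by
  rw [pLengthLE_iff]
  refine nchain_succ.mpr ⟨⊥, nchain_zero.mpr rfl, bot_le, inferInstance, ?_⟩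
  rw [fac_even ⟨0, rfl⟩, Subgroup.relIndex_bot_left, Subgroup.card_top]
  exact h

theorem pLengthLE_one_of_isPGroup [Finite G] (p : ℕ) [Fact p.Prime] (h : IsPGroup p G) :
    PLengthLE p 1 G := by
  rw [pLengthLE_iff]
  have h1 : NChain p (⊥ : Subgroup G) 1 ⊥ :=
    nchain_succ.mpr ⟨⊥, nchain_zero.mpr rfl, le_rfl, inferInstance,
      by rw [Subgroup.relIndex_self]; exact fac_one p 0⟩
  have h2 : NChain p (⊥ : Subgroup G) 2 ⊤ := by
    refine nchain_succ.mpr ⟨⊥, h1, bot_le, inferInstance, ?_⟩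
    rw [fac_odd (by decide), Subgroup.relIndex_bot_left, Subgroup.card_top]
    exact (IsPGroup.iff_card).mp h
  exact nchain_top_succ h2

/-- For a normal subgroup `N` with `p`-length `≤ k`, the upper `p`-series of `N` gives a chain of
normal subgroups of `G` ending at `N`. -/
theorem nchain_of_normal_pLengthLE [Finite G] (p : ℕ) [Fact p.Prime] (N : Subgroup G) [N.Normal]
    {k : ℕ} (h : PLengthLE p k N) : NChain p (⊥ : Subgroup G) (2 * k + 1) N := by
  have key : ∀ n : ℕ, NChain p (⊥ : Subgroup G) n ((upperPSeries p N n).1.map N.subtype) := by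
    intro n
    induction n with
    | zero => exact nchain_zero.mpr (by rw [upper_zero, Subgroup.map_bot])
    | succ n ih =>
      refine nchain_succ.mpr ⟨_, ih, Subgroup.map_mono (upper_le_succ p n), ?_, ?_⟩
      · haveI := upper_characteristic (G := N) p (n + 1)
        constructor
        intro x hx g
        obtain ⟨y, hy, rfl⟩ := hx
        have := Subgroup.characteristic_iff_map_le.mp
          (upper_characteristic (G := N) p (n + 1)) (MulAut.conjNormal g)
          (Subgroup.mem_map_of_mem _ hy)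
        refine ⟨_, this, ?_⟩
        simp [MulAut.conjNormal_apply]
      · rw [Subgroup.relIndex_map_map_of_injective _ _ N.subtype_injective]
        exact fac_upper p n
  have h1 := key (2 * k + 1)
  rwa [show (upperPSeries p N (2 * k + 1)).1 = ⊤ from h, ← MonoidHom.range_eq_map,
    Subgroup.range_subtype] at h1

/-- **Extension.** -/
theorem pLengthLE_extension [Finite G] (p : ℕ) [Fact p.Prime] (N : Subgroup G) [N.Normal]
    {a b : ℕ} (hN : PLengthLE p a N) (hQ : PLengthLE p b (G ⧸ N)) : PLengthLE p (a + b) G := by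
  rw [pLengthLE_iff]
  have h1 := nchain_of_normal_pLengthLE p N hN
  have h2 := nchain_comap (QuotientGroup.mk' N) (inferInstance : (⊥ : Subgroup (G ⧸ N)).Normal)
    ((pLengthLE_iff p b).mp hQ)
  rw [MonoidHom.comap_bot, QuotientGroup.ker_mk', Subgroup.comap_top] at h2
  have h3 := nchain_concat a h1 h2
  rwa [show 2 * a + (2 * b + 1) = 2 * (a + b) + 1 by ring] at h3

/-- **Shift.** -/
theorem pLengthLE_quotient_upper_two [Finite G] (p : ℕ) [Fact p.Prime] {k : ℕ}
    (h : PLengthLE p (k + 1) G) : PLengthLE p k (G ⧸ (upperPSeries p G 2).1) := by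
  rw [pLengthLE_iff]
  have key : ∀ i : ℕ, NChain p (⊥ : Subgroup (G ⧸ (upperPSeries p G 2).1)) i
      ((upperPSeries p G (i + 2)).1.map (QuotientGroup.mk' (upperPSeries p G 2).1)) := by
    intro i
    induction i with
    | zero =>
      refine nchain_zero.mpr ?_
      rw [show (0 : ℕ) + 2 = 2 from rfl, ← le_bot_iff, Subgroup.map_le_iff_le_comap,
        MonoidHom.comap_bot, QuotientGroup.ker_mk']
    | succ i ih =>
      refine nchain_succ.mpr ⟨_, ih, Subgroup.map_mono ?_,
        Subgroup.Normal.map inferInstance _ (QuotientGroup.mk'_surjective _), ?_⟩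
      · rw [show i + 1 + 2 = (i + 2) + 1 by ring]; exact upper_le_succ p (i + 2)
      · refine fac_dvd (relIndex_map_dvd _ ?_) ?_
        · rw [show i + 1 + 2 = (i + 2) + 1 by ring]; exact upper_le_succ p (i + 2)
        · rw [show i + 1 + 2 = (i + 2) + 1 by ring]
          exact fac_add_two.mp (fac_upper p (i + 2))
  have h1 := key (2 * k + 1)
  rwa [show 2 * k + 1 + 2 = 2 * (k + 1) + 1 by ring,
    show (upperPSeries p G (2 * (k + 1) + 1)).1 = ⊤ from h,
    Subgroup.map_top_of_surjective _ (QuotientGroup.mk'_surjective _)] at h1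

/-- If `O_{p'}(G) = 1` then `O_{p',p}(G)` is a `p`-group. -/
theorem isPGroup_upper_two [Finite G] (p : ℕ) [Fact p.Prime]
    (h : (upperPSeries p G 1).1 = ⊥) : IsPGroup p (upperPSeries p G 2).1 := by
  have h1 := fac_upper (G := G) p 1
  rw [fac_odd (by decide), h, Subgroup.relIndex_bot_left] at h1
  obtain ⟨m, hm⟩ := h1
  exact IsPGroup.of_card hm

theorem upper_one_eq [Finite G] (p : ℕ) [Fact p.Prime] : (upperPSeries p G 1).1 = pPrimeCore p G := by
  rw [Cfsg.Agent.Helper24.upperPSeries_one]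
  exact Cfsg.Agent.Helper24.comap_mk_bot_pPrimeCore p G

end PLen
end Cfsg.Agent.Helper63
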