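import Mathlib

/-!
# Hall–Higman Theorem B for abelian `p'`-groups, by averaging

Let `x` be an element of a finite group `G`, `R` an abelian subgroup of order prime to `p`
normalised by `x` such that no non-identity element of `R` commutes with a power `x ^ i`,
`0 < i < N`, and `Q` a normal `p`-subgroup such that `(u * (r * x)) ^ N = 1` for all `u ∈ Q`,
`r ∈ R` (e.g. `N = p ^ n` is the exponent of a Sylow `p`-subgroup).  Then `R` centralises `Q`
(`HHA.centralizes`).

In module language: if `x` has order `p ^ n` and `1 + x + ⋯ + x ^ (p ^ n - 1)` vanishes on a module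
`V` in characteristic `p` (the minimal polynomial of `x` has degree `< p ^ n`), then every abelian
`p'`-subgroup `R` normalised by `x` with `C_R(x ^ (p ^ (n-1))) = 1` acts trivially on `V`.
The proof is an averaging argument in the endomorphism ring (`HHA.avg`): the elements `r * x`,
`r ∈ R`, are conjugate to `x`, and `∑_r ∑_i (r x)^i = |R| + (∑_r r) * ∑_{i>0} x^i`.
-/

namespace Cfsg.Agent.Helper63
namespace HHA

section Basic
variable {K : Type*} [Group K]

/-- `gfun x i r = (r x)^i x^{-i}`. -/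
def gfun (x : K) (i : ℕ) (r : K) : K := (r * x) ^ i * (x ^ i)⁻¹

theorem gfun_zero (x r : K) : gfun x 0 r = 1 := by simp [gfun]

theorem pow_eq (x r : K) (i : ℕ) : (r * x) ^ i = gfun x i r * x ^ i := by
  simp [gfun]

theorem gfun_succ (x r : K) (i : ℕ) :
    gfun x (i + 1) r = gfun x i r * (x ^ i * r * (x ^ i)⁻¹) := by
  simp only [gfun, pow_succ, mul_inv_rev]
  group

theorem gfun_succ' (x r : K) (i : ℕ) :
    gfun x (i + 1) r = r * (x * gfun x i r * x⁻¹) := by
  simp only [gfun, pow_succ', mul_inv_rev]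
  group

theorem gfun_mem (R : Subgroup K) {x : K} (hx : ∀ r ∈ R, x * r * x⁻¹ ∈ R) (i : ℕ) {r : K}
    (hr : r ∈ R) : gfun x i r ∈ R := by
  induction i with
  | zero => rw [gfun_zero]; exact R.one_mem
  | succ i ih => rw [gfun_succ']; exact R.mul_mem hr (hx _ ih)

theorem gfun_mul (R : Subgroup K) (hab : ∀ a ∈ R, ∀ b ∈ R, a * b = b * a) {x : K}
    (hx : ∀ r ∈ R, x * r * x⁻¹ ∈ R) (i : ℕ) {r r' : K} (hr : r ∈ R) (hr' : r' ∈ R) :
    gfun x i (r * r') = gfun x i r * gfun x i r' := by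
  induction i with
  | zero => simp [gfun_zero]
  | succ i ih =>
    rw [gfun_succ', gfun_succ', gfun_succ', ih]
    have h1 : x * (gfun x i r * gfun x i r') * x⁻¹ =
        (x * gfun x i r * x⁻¹) * (x * gfun x i r' * x⁻¹) := by group
    rw [h1]
    have h2 := hab r' hr' _ (hx _ (gfun_mem R hx i hr))
    calc r * r' * (x * gfun x i r * x⁻¹ * (x * gfun x i r' * x⁻¹))
        = r * (r' * (x * gfun x i r * x⁻¹)) * (x * gfun x i r' * x⁻¹) := by group
      _ = r * ((x * gfun x i r * x⁻¹) * r') * (x * gfun x i r' * x⁻¹) := by rw [h2]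
      _ = r * (x * gfun x i r * x⁻¹) * (r' * (x * gfun x i r' * x⁻¹)) := by group

theorem gfun_inj (R : Subgroup K) (hab : ∀ a ∈ R, ∀ b ∈ R, a * b = b * a) {x : K}
    (hx : ∀ r ∈ R, x * r * x⁻¹ ∈ R) {i : ℕ}
    (hfix : ∀ r ∈ R, x ^ i * r = r * x ^ i → r = 1) {r r' : K} (hr : r ∈ R) (hr' : r' ∈ R)
    (h : gfun x i r = gfun x i r') : r = r' := by
  have ht : r * r'⁻¹ ∈ R := R.mul_mem hr (R.inv_mem hr')
  have h1 : gfun x i (r * r'⁻¹) * gfun x i r' = gfun x i r := by
    rw [← gfun_mul R hab hx i ht hr', inv_mul_cancel_right]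
  have h2 : gfun x i (r * r'⁻¹) = 1 := by
    rw [h] at h1
    exact mul_eq_right.mp h1
  have h3 := gfun_succ x (r * r'⁻¹) i
  have h4 := gfun_succ' x (r * r'⁻¹) i
  rw [h2] at h3 h4
  rw [h3] at h4
  have h5 : x ^ i * (r * r'⁻¹) = (r * r'⁻¹) * x ^ i := by
    have : x ^ i * (r * r'⁻¹) * (x ^ i)⁻¹ = r * r'⁻¹ := by
      rw [one_mul] at h4
      rw [h4]; group
    calc x ^ i * (r * r'⁻¹) = x ^ i * (r * r'⁻¹) * (x ^ i)⁻¹ * x ^ i := by group
      _ = (r * r'⁻¹) * x ^ i := by rw [this]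
  have h6 := hfix _ ht h5
  exact mul_inv_eq_one.mp h6

/-- Every `r * x` (`r ∈ R`) is conjugate to `x` under `R`, when `R` is finite abelian, normalised
by `x`, and `C_R(x) = 1`. -/
theorem exists_conj (R : Subgroup K) [Finite R] (hab : ∀ a ∈ R, ∀ b ∈ R, a * b = b * a) {x : K}
    (hx : ∀ r ∈ R, x * r * x⁻¹ ∈ R) (hfix : ∀ r ∈ R, x * r = r * x → r = 1) {r : K}
    (hr : r ∈ R) : ∃ g ∈ R, r * x = g * x * g⁻¹ := by
  let φ : R → R := fun g => ⟨g * (x * (g : K)⁻¹ * x⁻¹), R.mul_mem g.2 (hx _ (R.inv_mem g.2))⟩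
  have hinj : Function.Injective φ := by
    intro a b hab'
    have h1 : (a : K) * (x * (a : K)⁻¹ * x⁻¹) = (b : K) * (x * (b : K)⁻¹ * x⁻¹) :=
      congrArg Subtype.val hab'
    have ht : (b : K)⁻¹ * a ∈ R := R.mul_mem (R.inv_mem b.2) a.2
    have h2 : x * ((b : K)⁻¹ * a) = ((b : K)⁻¹ * a) * x := by
      have h3 := hab _ (hx _ (R.inv_mem a.2)) _ ht
      -- (x a⁻¹ x⁻¹) (b⁻¹ a) = (b⁻¹ a) (x a⁻¹ x⁻¹)
      have h4 : (b : K)⁻¹ * a * (x * (a : K)⁻¹ * x⁻¹) = x * (b : K)⁻¹ * x⁻¹ := by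
        calc (b : K)⁻¹ * a * (x * (a : K)⁻¹ * x⁻¹)
            = (b : K)⁻¹ * ((a : K) * (x * (a : K)⁻¹ * x⁻¹)) := by group
          _ = (b : K)⁻¹ * ((b : K) * (x * (b : K)⁻¹ * x⁻¹)) := by rw [h1]
          _ = x * (b : K)⁻¹ * x⁻¹ := by group
      rw [← h3] at h4
      have hc : (a : K) * (b : K)⁻¹ = (b : K)⁻¹ * a := hab a a.2 _ (R.inv_mem b.2)
      have h5 : (b : K)⁻¹ * a = x * ((b : K)⁻¹ * a) * x⁻¹ := by
        calc (b : K)⁻¹ * a
            = (x * (a : K) * x⁻¹) * ((x * (a : K)⁻¹ * x⁻¹) * ((b : K)⁻¹ * a)) := by group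
          _ = (x * (a : K) * x⁻¹) * (x * (b : K)⁻¹ * x⁻¹) := by rw [h4]
          _ = x * ((a : K) * (b : K)⁻¹) * x⁻¹ := by group
          _ = x * ((b : K)⁻¹ * a) * x⁻¹ := by rw [hc]
      calc x * ((b : K)⁻¹ * a) = (x * ((b : K)⁻¹ * a) * x⁻¹) * x := by group
        _ = ((b : K)⁻¹ * a) * x := by rw [← h5]
    have h5 := hfix _ ht h2
    exact Subtype.ext (inv_mul_eq_one.mp h5).symm
  have hsurj : Function.Surjective φ := Finite.injective_iff_surjective.mp hinj
  obtain ⟨g, hg⟩ := hsurj ⟨r, hr⟩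
  refine ⟨g, g.2, ?_⟩
  have h1 : (g : K) * (x * (g : K)⁻¹ * x⁻¹) = r := congrArg Subtype.val hg
  rw [← h1]; group

/-- If `r` commutes with `x ^ i`, `0 < i < p ^ (n+1)`, and `x ^ (p ^ (n+1)) = 1`, then `r`
commutes with `x ^ (p ^ n)`. -/
theorem commute_pow_of_commute {p : ℕ} (hp : p.Prime) {x r : K} {n i : ℕ}
    (hxN : x ^ p ^ (n + 1) = 1) (hi : 0 < i) (hiN : i < p ^ (n + 1)) (h : Commute r (x ^ i)) :
    Commute r (x ^ p ^ n) := by
  obtain ⟨a, ha, hg⟩ := (Nat.dvd_prime_pow hp).mp (Nat.gcd_dvd_right i (p ^ (n + 1)))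
  have ha' : a ≤ n := by
    by_contra hcon
    have h1 : a = n + 1 := by omega
    rw [h1] at hg
    have h2 : p ^ (n + 1) ∣ i := hg ▸ Nat.gcd_dvd_left i (p ^ (n + 1))
    exact absurd (Nat.le_of_dvd hi h2) (by omega)
  have hgcd : Commute r (x ^ (Nat.gcd i (p ^ (n + 1)))) := by
    have e : x ^ (Nat.gcd i (p ^ (n + 1))) =
        (x ^ i) ^ (Nat.gcdA i (p ^ (n + 1))) * (x ^ p ^ (n + 1)) ^ (Nat.gcdB i (p ^ (n + 1))) := by
      rw [← zpow_natCast x (Nat.gcd i (p ^ (n + 1))), Nat.gcd_eq_gcd_ab, zpow_add, zpow_mul,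
        zpow_mul, zpow_natCast, zpow_natCast]
    rw [e, hxN, one_zpow, mul_one]
    exact h.zpow_right _
  rw [hg] at hgcd
  have e2 : x ^ p ^ n = (x ^ p ^ a) ^ p ^ (n - a) := by
    rw [← pow_mul, ← pow_add, Nat.add_sub_cancel' ha']
  rw [e2]
  exact hgcd.pow_right _

end Basic

section Ring
variable {E : Type*} [Ring E] {K : Type*} [Group K]

/-- **Averaging.** -/
theorem avg (ρ : K →* E) (R : Subgroup K) [Finite R] (hab : ∀ a ∈ R, ∀ b ∈ R, a * b = b * a)
    (x : K) (hx : ∀ r ∈ R, x * r * x⁻¹ ∈ R) (N : ℕ) (hN : 0 < N)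
    (hfix : ∀ r ∈ R, ∀ i, 0 < i → i < N → x ^ i * r = r * x ^ i → r = 1)
    (hsum : ∀ r ∈ R, ∑ i ∈ Finset.range N, ρ ((r * x) ^ i) = 0) (s : K) (hs : s ∈ R) :
    (Nat.card R) • (ρ s - 1) = 0 := by
  classical
  haveI : Fintype R := Fintype.ofFinite R
  obtain ⟨T, hTdef⟩ : ∃ T : E, T = ∑ r : R, ρ (r : K) := ⟨_, rfl⟩
  have hT : ∀ i, 0 < i → i < N → ∑ r : R, ρ (gfun x i (r : K)) = T := by
    intro i hi hiN
    let e : R → R := fun r => ⟨gfun x i (r : K), gfun_mem R hx i r.2⟩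
    have hinj : Function.Injective e := fun a b hab' =>
      Subtype.ext (gfun_inj R hab hx (fun r hr => hfix r hr i hi hiN) a.2 b.2
        (congrArg Subtype.val hab'))
    have hbij : Function.Bijective e := Finite.injective_iff_bijective.mp hinj
    rw [hTdef]
    exact Fintype.sum_bijective e hbij _ _ (fun r => rfl)
  have h0 : ∑ r : R, ∑ i ∈ Finset.range N, ρ (((r : K) * x) ^ i) = 0 :=
    Finset.sum_eq_zero (fun r _ => hsum r r.2)
  rw [Finset.sum_comm] at h0
  have h1 : ∀ i ∈ Finset.range N, ∑ r : R, ρ (((r : K) * x) ^ i) =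
      (if i = 0 then (Nat.card R : E) else T) * ρ x ^ i := by
    intro i hi
    by_cases h : i = 0
    · subst h
      simp [Nat.card_eq_fintype_card]
    · rw [if_neg h, ← hT i (Nat.pos_of_ne_zero h) (Finset.mem_range.mp hi), Finset.sum_mul]
      refine Finset.sum_congr rfl (fun r _ => ?_)
      rw [← map_pow, ← map_mul, ← pow_eq]
  rw [Finset.sum_congr rfl h1] at h0
  obtain ⟨M, rfl⟩ : ∃ M, N = M + 1 := ⟨N - 1, by omega⟩
  rw [Finset.sum_range_succ'] at h0
  have h2 : ∑ i ∈ Finset.range M, (if i + 1 = 0 then (Nat.card R : E) else T) * ρ x ^ (i + 1) =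
      T * ∑ i ∈ Finset.range M, ρ x ^ (i + 1) := by
    rw [Finset.mul_sum]
    exact Finset.sum_congr rfl (fun i _ => by rw [if_neg (Nat.succ_ne_zero i)])
  rw [h2, if_pos rfl, pow_zero, mul_one] at h0
  have hsT : ρ s * T = T := by
    rw [hTdef, Finset.mul_sum]
    exact Fintype.sum_bijective (fun r : R => (⟨s, hs⟩ : R) * r) (Group.mulLeft_bijective _) _ _
      (fun r => by rw [← map_mul]; rfl)
  have h3 : (ρ s - 1) * (T * ∑ i ∈ Finset.range M, ρ x ^ (i + 1)) = 0 := by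
    rw [← mul_assoc, sub_mul, one_mul, hsT, sub_self, zero_mul]
  have h4 : (ρ s - 1) * (T * ∑ i ∈ Finset.range M, ρ x ^ (i + 1) + (Nat.card R : E)) = 0 := by
    rw [h0, mul_zero]
  rw [mul_add, h3, zero_add] at h4
  rw [nsmul_eq_mul, (Nat.cast_commute _ _).eq]
  exact h4

end Ring

section GroupLevel
variable {G : Type*} [Group G]

/-- Averaging on an abelian normal subgroup `Z` without `|R|`-torsion. -/
theorem avg_group (Z : Subgroup G) [Z.Normal] (hZab : ∀ a ∈ Z, ∀ b ∈ Z, a * b = b * a)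
    (R : Subgroup G) [Finite R] (hab : ∀ a ∈ R, ∀ b ∈ R, a * b = b * a)
    (hZt : ∀ z ∈ Z, z ^ Nat.card R = 1 → z = 1)
    (x : G) (hx : ∀ r ∈ R, x * r * x⁻¹ ∈ R) (N : ℕ) (hN : 0 < N)
    (hfix : ∀ r ∈ R, ∀ i, 0 < i → i < N → x ^ i * r = r * x ^ i → r = 1)
    (hexp : ∀ r ∈ R, ∀ z ∈ Z, (z * (r * x)) ^ N = (r * x) ^ N) :
    ∀ s ∈ R, ∀ z ∈ Z, s * z = z * s := by
  letI : CommGroup Z :=
    { (inferInstance : Group Z) with mul_comm := fun a b => Subtype.ext (hZab a a.2 b b.2) }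
  let cG : G →* AddMonoid.End (Additive Z) :=
    { toFun := fun g => MonoidHom.toAdditive ((MulAut.conjNormal g : Z ≃* Z).toMonoidHom)
      map_one' := by
        apply AddMonoidHom.ext
        intro v
        show Additive.ofMul ((MulAut.conjNormal (1 : G) : Z ≃* Z) (Additive.toMul v)) = v
        rw [map_one]; rfl
      map_mul' := by
        intro g h
        apply AddMonoidHom.ext
        intro v
        show Additive.ofMul ((MulAut.conjNormal (g * h) : Z ≃* Z) (Additive.toMul v)) =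
          Additive.ofMul ((MulAut.conjNormal g : Z ≃* Z)
            ((MulAut.conjNormal h : Z ≃* Z) (Additive.toMul v)))
        rw [map_mul]; rfl }
  have hcG : ∀ (g : G) (v : Additive Z),
      cG g v = Additive.ofMul ((MulAut.conjNormal g : Z ≃* Z) (Additive.toMul v)) :=
    fun g v => rfl
  have hcoe : ∀ a b : Z, ((a * b : Z) : G) = (a : G) * (b : G) := fun a b => rfl
  have key : ∀ (g : G) (z : Z) (n : ℕ), ((z : G) * g) ^ n =
      ((∏ i ∈ Finset.range n, (MulAut.conjNormal (g ^ i) : Z ≃* Z) z : Z) : G) * g ^ n := by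
    intro g z n
    induction n with
    | zero =>
      rw [Finset.range_zero, Finset.prod_empty, pow_zero, pow_zero, mul_one]
      rfl
    | succ n ih =>
      rw [pow_succ, ih, Finset.prod_range_succ, hcoe, MulAut.conjNormal_apply, pow_succ]
      group
  have hpart : ∀ (g : G) (v : Additive Z) (n : ℕ),
      (∑ i ∈ Finset.range n, cG (g ^ i)) v =
        Additive.ofMul (∏ i ∈ Finset.range n,
          (MulAut.conjNormal (g ^ i) : Z ≃* Z) (Additive.toMul v)) := by
    intro g v n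
    induction n with
    | zero =>
      rw [Finset.range_zero, Finset.sum_empty, Finset.prod_empty]
      rfl
    | succ n ih =>
      rw [Finset.sum_range_succ, Finset.prod_range_succ]
      show (∑ i ∈ Finset.range n, cG (g ^ i)) v + cG (g ^ n) v = _
      rw [ih, hcG]
      rfl
  have hsum : ∀ r ∈ R, ∑ i ∈ Finset.range N, cG ((r * x) ^ i) = 0 := by
    intro r hr
    refine DFunLike.ext _ _ (fun v => ?_)
    rw [hpart]
    have h1 := key (r * x) (Additive.toMul v) N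
    rw [hexp r hr _ (Additive.toMul v).2] at h1
    have h2 : ((∏ i ∈ Finset.range N,
        (MulAut.conjNormal ((r * x) ^ i) : Z ≃* Z) (Additive.toMul v) : Z) : G) = 1 :=
      (mul_eq_right.mp h1.symm)
    have h3 : (∏ i ∈ Finset.range N,
        (MulAut.conjNormal ((r * x) ^ i) : Z ≃* Z) (Additive.toMul v) : Z) = 1 :=
      Subtype.ext h2
    rw [h3]
    rfl
  intro s hs z hz
  have h1 := avg cG R hab x hx N hN hfix hsum s hs
  have h2 := DFunLike.congr_fun h1 (Additive.ofMul (⟨z, hz⟩ : Z))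
  have h3 : Nat.card R • ((cG s - 1) (Additive.ofMul (⟨z, hz⟩ : Z))) = 0 := by
    simpa using h2
  have h4 : (cG s - 1) (Additive.ofMul (⟨z, hz⟩ : Z)) =
      Additive.ofMul ((MulAut.conjNormal s : Z ≃* Z) ⟨z, hz⟩ / ⟨z, hz⟩) := rfl
  rw [h4] at h3
  have h5 : ((MulAut.conjNormal s : Z ≃* Z) ⟨z, hz⟩ / ⟨z, hz⟩) ^ Nat.card R = 1 := by
    have := congrArg Additive.toMul h3
    simpa using this
  have h6 : (s * z * s⁻¹ * z⁻¹) ^ Nat.card R = 1 := by
    have := congrArg (Subtype.val : Z → G) h5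
    simpa [MulAut.conjNormal_apply, div_eq_mul_inv] using this
  have h7 : s * z * s⁻¹ * z⁻¹ ∈ Z :=
    Z.mul_mem ((inferInstance : Z.Normal).conj_mem z hz s) (Z.inv_mem hz)
  have h8 := hZt _ h7 h6
  calc s * z = (s * z * s⁻¹ * z⁻¹) * (z * s) := by group
    _ = z * s := by rw [h8, one_mul]

end GroupLevel

section Centralizes

theorem eq_one_of_pow_coprime' {G : Type*} [Group G] {x : G} {m n : ℕ} (hm : x ^ m = 1)
    (hn : x ^ n = 1) (h : Nat.Coprime m n) : x = 1 := by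
  have := pow_gcd_eq_one.2 ⟨hm, hn⟩
  rwa [h, pow_one] at this

theorem pow_mul_of_stab' {G : Type*} [Group G] {x q c : G} (h : x * q = c * q * x)
    (hxc : x * c = c * x) (j : ℕ) : x ^ j * q = c ^ j * q * x ^ j := by
  induction j with
  | zero => simp
  | succ j ih =>
    have hxcj : x * c ^ j = c ^ j * x := (Commute.pow_right hxc j).eq
    calc x ^ (j + 1) * q = x * (x ^ j * q) := by rw [pow_succ']; group
      _ = x * (c ^ j * q * x ^ j) := by rw [ih]
      _ = (x * c ^ j) * q * x ^ j := by group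
      _ = c ^ j * (x * q) * x ^ j := by rw [hxcj]; group
      _ = c ^ j * (c * q * x) * x ^ j := by rw [h]
      _ = c ^ (j + 1) * q * x ^ (j + 1) := by rw [pow_succ, pow_succ']; group

theorem commute_of_stab' {G : Type*} [Group G] {x q c : G} (h : x * q = c * q * x)
    (hxc : x * c = c * x) {m n : ℕ} (hx : x ^ m = 1) (hc : c ^ n = 1) (hmn : Nat.Coprime m n) :
    x * q = q * x := by
  have h6 := pow_mul_of_stab' h hxc m
  rw [hx, one_mul, mul_one] at h6
  have h7 : c ^ m = 1 := by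
    have : c ^ m * q = 1 * q := by rw [one_mul]; exact h6.symm
    exact mul_right_cancel this
  have h8 : c = 1 := eq_one_of_pow_coprime' h7 hc hmn
  rw [h, h8, one_mul]

theorem mem_pow_eq_one {G : Type*} [Group G] (R : Subgroup G) [Finite R] {r : G} (hr : r ∈ R) :
    r ^ Nat.card R = 1 := by
  have := pow_card_eq_one' (G := R) (x := ⟨r, hr⟩)
  exact congrArg Subtype.val this

theorem eq_one_of_mem_of_mem {p : ℕ} {G : Type*} [Group G] (Q R : Subgroup G) [Finite R]
    (hQ : IsPGroup p Q) (hR : (Nat.card R).Coprime p) {c : G} (hcQ : c ∈ Q) (hcR : c ∈ R) :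
    c = 1 := by
  obtain ⟨k, hk⟩ := hQ ⟨c, hcQ⟩
  have h1 : c ^ p ^ k = 1 := congrArg Subtype.val hk
  exact eq_one_of_pow_coprime' (mem_pow_eq_one R hcR) h1 (Nat.Coprime.pow_right k hR)

theorem conj_pow_mem {G : Type*} [Group G] (R : Subgroup G) {x : G}
    (hx : ∀ r ∈ R, x * r * x⁻¹ ∈ R) (i : ℕ) {r : G} (hr : r ∈ R) :
    x ^ i * r * (x ^ i)⁻¹ ∈ R := by
  induction i with
  | zero => simpa using hr
  | succ i ih =>
    have : x ^ (i + 1) * r * (x ^ (i + 1))⁻¹ = x * (x ^ i * r * (x ^ i)⁻¹) * x⁻¹ := by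
      rw [pow_succ']; group
    rw [this]
    exact hx _ ih

universe u

/-- **Hall–Higman Theorem B, abelian case, group form.** -/
theorem centralizes (p : ℕ) [hp : Fact p.Prime] : ∀ (m : ℕ) (G : Type u) [Group G] [Finite G]
    (Q : Subgroup G) [Q.Normal], IsPGroup p Q → Nat.card Q = m → ∀ (R : Subgroup G),
    (∀ a ∈ R, ∀ b ∈ R, a * b = b * a) → (Nat.card R).Coprime p → ∀ (x : G),
    (∀ r ∈ R, x * r * x⁻¹ ∈ R) → ∀ (N : ℕ), 0 < N →
    (∀ r ∈ R, ∀ i, 0 < i → i < N → x ^ i * r = r * x ^ i → r = 1) →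
    (∀ r ∈ R, ∀ u ∈ Q, (u * (r * x)) ^ N = 1) → ∀ r ∈ R, ∀ u ∈ Q, r * u = u * r := by
  intro m
  induction m using Nat.strong_induction_on with
  | _ m ih =>
    intro G _ _ Q _ hQ hm R hab hcop x hx N hN hfix hexp
    by_cases hQbot : Q = ⊥
    · intro r _ u hu
      rw [hQbot, Subgroup.mem_bot] at hu
      rw [hu, mul_one, one_mul]
    obtain ⟨Z, hZdef⟩ : ∃ Z : Subgroup G, Z = Q ⊓ Subgroup.centralizer (Q : Set G) := ⟨_, rfl⟩
    haveI hZn : Z.Normal := by rw [hZdef]; infer_instance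
    have hZQ : Z ≤ Q := by rw [hZdef]; exact inf_le_left
    have hZab : ∀ a ∈ Z, ∀ b ∈ Z, a * b = b * a := by
      intro a ha b hb
      rw [hZdef] at ha hb
      exact (Subgroup.mem_centralizer_iff.mp ha.2 b hb.1).symm
    have hZne : Z ≠ ⊥ := by
      haveI : Nontrivial Q := (Subgroup.nontrivial_iff_ne_bot Q).mpr hQbot
      haveI := hQ.center_nontrivial
      obtain ⟨z, hz⟩ := exists_ne (1 : Subgroup.center Q)
      intro hZ
      apply hz
      have hmem : ((z : Q) : G) ∈ Z := by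
        rw [hZdef]
        exact ⟨(z : Q).2, Subgroup.mem_centralizer_iff.mpr (fun h hh =>
          congrArg Subtype.val (Subgroup.mem_center_iff.mp z.2 ⟨h, hh⟩))⟩
      rw [hZ, Subgroup.mem_bot] at hmem
      exact Subtype.ext (Subtype.ext hmem)
    have hRQ : ∀ c, c ∈ Q → c ∈ R → c = 1 := fun c hcQ hcR =>
      eq_one_of_mem_of_mem Q R hQ hcop hcQ hcR
    have hZt : ∀ z ∈ Z, z ^ Nat.card R = 1 → z = 1 := by
      intro z hz hzR
      obtain ⟨k, hk⟩ := hQ ⟨z, hZQ hz⟩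
      have h1 : z ^ p ^ k = 1 := congrArg Subtype.val hk
      exact eq_one_of_pow_coprime' hzR h1 (Nat.Coprime.pow_right k hcop)
    have step1 : ∀ s ∈ R, ∀ z ∈ Z, s * z = z * s := by
      refine avg_group Z hZab R hab hZt x hx N hN hfix ?_
      intro r hr z hz
      rw [hexp r hr z (hZQ hz)]
      have := hexp r hr 1 Q.one_mem
      rw [one_mul] at this
      exact this.symm
    have hcardlt : Nat.card (Q.map (QuotientGroup.mk' Z)) < m := by
      have h1 := Subgroup.relIndex_ker Q (QuotientGroup.mk' Z)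
      rw [QuotientGroup.ker_mk'] at h1
      have h2 := Subgroup.relIndex_mul_relIndex ⊥ Z Q bot_le hZQ
      rw [Subgroup.relIndex_bot_left, Subgroup.relIndex_bot_left, hm] at h2
      have h3 : 1 < Nat.card Z := (Subgroup.one_lt_card_iff_ne_bot Z).mpr hZne
      have h4 : 0 < Z.relIndex Q := by
        rcases Nat.eq_zero_or_pos (Z.relIndex Q) with h | h
        · rw [h, mul_zero] at h2
          have : 0 < Nat.card Q := Nat.card_pos
          omega
        · exact h
      rw [← h1]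
      nlinarith
    have hπ : Function.Surjective (QuotientGroup.mk' Z) := QuotientGroup.mk'_surjective Z
    haveI : (Q.map (QuotientGroup.mk' Z)).Normal := Subgroup.Normal.map inferInstance _ hπ
    have step2 := ih _ hcardlt (G ⧸ Z) (Q.map (QuotientGroup.mk' Z)) (hQ.map _) rfl
      (R.map (QuotientGroup.mk' Z))
      (by
        rintro _ ⟨a, ha, rfl⟩ _ ⟨b, hb, rfl⟩
        rw [← map_mul, ← map_mul, hab a ha b hb])
      (Nat.Coprime.coprime_dvd_left (Subgroup.card_map_dvd R _) hcop)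
      (QuotientGroup.mk' Z x)
      (by
        rintro _ ⟨r, hr, rfl⟩
        exact ⟨x * r * x⁻¹, hx r hr, by simp⟩)
      N hN
      (by
        rintro _ ⟨r, hr, rfl⟩ i hi hiN hcomm
        have hc : x ^ i * r * (x ^ i)⁻¹ * r⁻¹ ∈ Z := by
          apply (QuotientGroup.eq_one_iff _).mp
          have : (QuotientGroup.mk' Z) (x ^ i * r * (x ^ i)⁻¹ * r⁻¹) = 1 := by
            rw [map_mul, map_mul, map_mul, map_inv, map_inv, map_pow, hcomm]; group
          exact this
        have hcR : x ^ i * r * (x ^ i)⁻¹ * r⁻¹ ∈ R :=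
          R.mul_mem (conj_pow_mem R hx i hr) (R.inv_mem hr)
        have h1 := hRQ _ (hZQ hc) hcR
        have h2 : x ^ i * r = r * x ^ i := by
          calc x ^ i * r = (x ^ i * r * (x ^ i)⁻¹ * r⁻¹) * (r * x ^ i) := by group
            _ = r * x ^ i := by rw [h1, one_mul]
        rw [hfix r hr i hi hiN h2, map_one])
      (by
        rintro _ ⟨r, hr, rfl⟩ _ ⟨u, hu, rfl⟩
        rw [← map_mul, ← map_mul, ← map_pow, hexp r hr u hu, map_one])
    intro r hr u hu
    have hc : r * u * r⁻¹ * u⁻¹ ∈ Z := by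
      apply (QuotientGroup.eq_one_iff _).mp
      have h1 := step2 _ ⟨r, hr, rfl⟩ _ ⟨u, hu, rfl⟩
      have : (QuotientGroup.mk' Z) (r * u * r⁻¹ * u⁻¹) = 1 := by
        rw [map_mul, map_mul, map_mul, map_inv, map_inv, h1]; group
      exact this
    have h2 := step1 r hr _ hc
    obtain ⟨k, hk⟩ := hQ ⟨_, hZQ hc⟩
    have h3 : (r * u * r⁻¹ * u⁻¹) ^ p ^ k = 1 := congrArg Subtype.val hk
    exact commute_of_stab' (c := r * u * r⁻¹ * u⁻¹) (by group) h2 (mem_pow_eq_one R hr) h3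
      (Nat.Coprime.pow_right k hcop)

end Centralizes

end HHA
end Cfsg.Agent.Helper63
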