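import Mathlib
import Cfsg.Prelude.Def_Local
import Cfsg.Agent.Helper24.PLen
import Cfsg.Agent.Helper32.PSolvable
import Cfsg.Agent.Helper55.TwoClosed
import Cfsg.Agent.Helper63.HHAbelian

/-!
# `p`-solvable groups: the dual of Hall–Higman 1.2.3, invariant Sylow subgroups, lifting

* `pCore_quotient_pCore_eq_bot`: `O_p(G / O_p(G)) = 1`.
* `centralizer_pPrimeCore_le`: in a `p`-solvable group with `O_p(H) = 1`,
  `C_H(O_{p'}(H)) ≤ O_{p'}(H)`.
* `exists_invariant_sylow`: a `p`-element normalises a Sylow `q`-subgroup of a normal `p'`-subgroup.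
* `exists_invariant_not_centralized`.
* `exists_lift_invariant`: lifting an invariant `q`-subgroup of `G / Q` (`Q` a normal `p`-subgroup).
-/

namespace Cfsg.Agent.Helper63
namespace HHP

open Cfsg

section Cores
variable {G : Type*} [Group G]

theorem pCore_quotient_pCore_eq_bot [Finite G] (p : ℕ) [Fact p.Prime] :
    pCore p (G ⧸ pCore p G) = ⊥ := by
  have hN : IsPGroup p (pCore p (G ⧸ pCore p G)) := Cfsg.Agent.Helper24.isPGroup_pCore p _
  have hQ : IsPGroup p (pCore p G) := Cfsg.Agent.Helper24.isPGroup_pCore p G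
  have hM : IsPGroup p ((pCore p (G ⧸ pCore p G)).comap (QuotientGroup.mk' (pCore p G))) := by
    rintro ⟨m, hm⟩
    obtain ⟨k, hk⟩ := hN ⟨QuotientGroup.mk' (pCore p G) m, hm⟩
    have h1 : (QuotientGroup.mk' (pCore p G) m) ^ p ^ k = 1 := congrArg Subtype.val hk
    rw [← map_pow] at h1
    have h2 : m ^ p ^ k ∈ pCore p G := (QuotientGroup.eq_one_iff _).mp h1
    obtain ⟨j, hj⟩ := hQ ⟨_, h2⟩
    have h3 : (m ^ p ^ k) ^ p ^ j = 1 := congrArg Subtype.val hj
    refine ⟨k + j, Subtype.ext ?_⟩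
    show m ^ p ^ (k + j) = 1
    rw [pow_add, pow_mul]; exact h3
  have hle := Cfsg.Agent.Helper24.le_pCore
    (inferInstance : ((pCore p (G ⧸ pCore p G)).comap (QuotientGroup.mk' (pCore p G))).Normal) hM
  rw [eq_bot_iff]
  intro y hy
  obtain ⟨g, rfl⟩ := QuotientGroup.mk'_surjective (pCore p G) y
  have : g ∈ pCore p G := hle hy
  exact Subgroup.mem_bot.mpr ((QuotientGroup.eq_one_iff g).mpr this)

/-- The dual of Hall–Higman's Lemma 1.2.3. -/
theorem centralizer_pPrimeCore_le [Finite G] {p : ℕ} [hp : Fact p.Prime]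
    (hG : IsPSolvable p G) (hOp : pCore p G = ⊥) :
    Subgroup.centralizer (pPrimeCore p G : Set G) ≤ pPrimeCore p G := by
  by_contra hnot
  have hf : Function.Surjective (QuotientGroup.mk' (pPrimeCore p G)) :=
    QuotientGroup.mk'_surjective _
  haveI hCn : (Subgroup.centralizer (pPrimeCore p G : Set G)).Normal := inferInstance
  haveI hC'n : ((Subgroup.centralizer (pPrimeCore p G : Set G)).map
      (QuotientGroup.mk' (pPrimeCore p G))).Normal := Subgroup.Normal.map hCn _ hf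
  have hC'ne : (Subgroup.centralizer (pPrimeCore p G : Set G)).map
      (QuotientGroup.mk' (pPrimeCore p G)) ≠ ⊥ := by
    intro h
    rw [Subgroup.map_eq_bot_iff, QuotientGroup.ker_mk'] at h
    exact hnot h
  obtain ⟨D, hDn, hDC, hDne, hD⟩ := Cfsg.Agent.Helper32.exists_normal_le_of_isPSolvable hp.out
    (Cfsg.Agent.Helper32.isPSolvable_quotient hp.out hG (pPrimeCore p G)) _ hC'ne
  rcases hD with hpg | hcop
  · -- `D` is a `p`-group
    obtain ⟨E, hEdef⟩ : ∃ E : Subgroup G, E = D.comap (QuotientGroup.mk' (pPrimeCore p G)) ⊓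
        Subgroup.centralizer (pPrimeCore p G : Set G) := ⟨_, rfl⟩
    haveI hEn : E.Normal := by
      haveI := hDn
      rw [hEdef]; infer_instance
    have hEmap : E.map (QuotientGroup.mk' (pPrimeCore p G)) = D := by
      apply le_antisymm
      · rintro _ ⟨e, he, rfl⟩
        rw [hEdef] at he
        exact he.1
      · intro d hd
        obtain ⟨c, hc, rfl⟩ := hDC hd
        exact ⟨c, by rw [hEdef]; exact ⟨hd, hc⟩, rfl⟩
    -- `E` is nilpotent
    have hker : ((QuotientGroup.mk' (pPrimeCore p G)).comp E.subtype).rangeRestrict.ker ≤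
        Subgroup.center E := by
      intro e he
      rw [MonoidHom.ker_rangeRestrict, MonoidHom.mem_ker] at he
      have he' : (e : G) ∈ pPrimeCore p G := (QuotientGroup.eq_one_iff _).mp he
      rw [Subgroup.mem_center_iff]
      intro e'
      have he'C : (e' : G) ∈ Subgroup.centralizer (pPrimeCore p G : Set G) := (hEdef.le e'.2).2
      exact Subtype.ext (Subgroup.mem_centralizer_iff.mp he'C _ he').symm
    have hrange : IsPGroup p
        ((QuotientGroup.mk' (pPrimeCore p G)).comp E.subtype).range := by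
      apply hpg.to_le
      rintro _ ⟨e, rfl⟩
      exact (hEdef.le e.2).1
    haveI : Group.IsNilpotent ((QuotientGroup.mk' (pPrimeCore p G)).comp E.subtype).range :=
      hrange.isNilpotent
    haveI hEnil : Group.IsNilpotent E := Subgroup.isNilpotent_of_ker_le_center _ hker
    obtain ⟨S⟩ : Nonempty (Sylow p E) := inferInstance
    haveI hSn : (S : Subgroup E).Normal := inferInstance
    have hSchar : (S : Subgroup E).Characteristic := Sylow.characteristic_of_normal S hSn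
    have hSmapn : ((S : Subgroup E).map E.subtype).Normal := by
      constructor
      intro x hx g
      obtain ⟨y, hy, rfl⟩ := hx
      have := Subgroup.characteristic_iff_map_le.mp hSchar (MulAut.conjNormal g)
        (Subgroup.mem_map_of_mem _ hy)
      refine ⟨_, this, ?_⟩
      simp [MulAut.conjNormal_apply]
    have hSbot : (S : Subgroup E).map E.subtype = ⊥ := by
      rw [eq_bot_iff, ← hOp]
      exact Cfsg.Agent.Helper24.le_pCore hSmapn (S.isPGroup'.map _)
    have hS : (S : Subgroup E) = ⊥ :=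
      (Subgroup.map_eq_bot_iff_of_injective _ E.subtype_injective).mp hSbot
    have hEp : ¬ p ∣ Nat.card E := fun h => S.ne_bot_of_dvd_card h hS
    have hDp : ¬ p ∣ Nat.card D := by
      rw [← hEmap]
      exact fun h => hEp (h.trans (Subgroup.card_map_dvd E _))
    rcases hpg.card_eq_or_dvd with h1 | h1
    · exact hDne (Subgroup.card_eq_one.mp h1)
    · exact hDp h1
  · -- `D` is a `p'`-group
    have h1 := Cfsg.Agent.Helper24.le_pPrimeCore hDn hcop
    rw [Cfsg.Agent.Helper55.pPrimeCore_quotient_eq_bot p G] at h1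
    exact hDne (eq_bot_iff.mpr h1)

end Cores

section Invariant
variable {G : Type*} [Group G] [Finite G]

open scoped Pointwise

omit [Finite G] in
theorem isPGroup_zpowers {p : ℕ} {x : G} (hx : ∃ k : ℕ, x ^ p ^ k = 1) :
    IsPGroup p (Subgroup.zpowers x) := by
  obtain ⟨k, hk⟩ := hx
  rintro ⟨y, hy⟩
  obtain ⟨j, rfl⟩ := Subgroup.mem_zpowers_iff.mp hy
  refine ⟨k, Subtype.ext ?_⟩
  show (x ^ j) ^ p ^ k = 1
  rw [← zpow_natCast, ← zpow_mul, mul_comm, zpow_mul, zpow_natCast, hk, one_zpow]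

/-- A `p`-element normalises some Sylow `q`-subgroup of a normal `p'`-subgroup `N`. -/
theorem exists_invariant_sylow {p : ℕ} [hp : Fact p.Prime] (N : Subgroup G) [N.Normal]
    (hN : (Nat.card N).Coprime p) (x : G) (hx : ∃ k : ℕ, x ^ p ^ k = 1) (q : ℕ)
    [hq : Fact q.Prime] :
    ∃ R : Subgroup G, R ≤ N ∧ IsPGroup q R ∧ (∀ r ∈ R, x * r * x⁻¹ ∈ R) ∧
      Nat.card R = q ^ (Nat.card N).factorization q := by
  classical
  let f : (Subgroup.zpowers x) →* MulAut N :=
    (MulAut.conjNormal (H := N)).comp (Subgroup.zpowers x).subtype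
  letI : MulAction (Subgroup.zpowers x) (Sylow q N) := MulAction.compHom (Sylow q N) f
  have hpg : IsPGroup p (Subgroup.zpowers x) := isPGroup_zpowers hx
  have hcard : ¬ p ∣ Nat.card (Sylow q N) := by
    obtain ⟨P⟩ : Nonempty (Sylow q N) := inferInstance
    intro h
    have h1 : p ∣ Nat.card N :=
      h.trans ((Sylow.card_dvd_index P).trans (Subgroup.index_dvd_card _))
    exact (Nat.Prime.coprime_iff_not_dvd hp.out).mp hN.symm h1
  obtain ⟨P, hP⟩ := hpg.nonempty_fixed_point_of_prime_not_dvd_card (Sylow q N) hcard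
  refine ⟨(P : Subgroup N).map N.subtype, ?_, P.isPGroup'.map _, ?_, ?_⟩
  · rintro _ ⟨n, _, rfl⟩; exact n.2
  · rintro _ ⟨n, hn, rfl⟩
    have h1 : (⟨x, Subgroup.mem_zpowers x⟩ : Subgroup.zpowers x) • P = P :=
      MulAction.mem_fixedPoints.mp hP _
    have h2 : (MulAut.conjNormal x : MulAut N) • (P : Subgroup N) = (P : Subgroup N) :=
      congrArg (fun S : Sylow q N => (S : Subgroup N)) h1
    have h3 : (MulAut.conjNormal x : MulAut N) • n ∈
        (MulAut.conjNormal x : MulAut N) • (P : Subgroup N) :=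
      Subgroup.smul_mem_pointwise_smul _ _ _ hn
    rw [h2] at h3
    refine ⟨_, h3, ?_⟩
    simp [MulAut.smul_def, MulAut.conjNormal_apply]
  · rw [Subgroup.card_map_of_injective N.subtype_injective, Sylow.card_eq_multiplicity]

theorem exists_invariant_not_centralized {p : ℕ} [hp : Fact p.Prime] (N : Subgroup G) [N.Normal]
    (hN : (Nat.card N).Coprime p) (x : G) (hx : ∃ k : ℕ, x ^ p ^ k = 1) (y : G) (k : G)
    (hk : k ∈ N) (hky : k * y ≠ y * k) :
    ∃ (q : ℕ) (_ : Fact q.Prime) (R : Subgroup G), R ≤ N ∧ IsPGroup q R ∧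
      (∀ r ∈ R, x * r * x⁻¹ ∈ R) ∧ ∃ r ∈ R, r * y ≠ y * r := by
  by_contra hcon
  have hC : Nat.card N ∣ Nat.card (N ⊓ Subgroup.centralizer {y} : Subgroup G) := by
    rw [Nat.dvd_iff_prime_pow_dvd_dvd]
    intro q j hq hdvd
    haveI : Fact q.Prime := ⟨hq⟩
    obtain ⟨R, hRN, hRq, hRx, hRcard⟩ := exists_invariant_sylow N hN x hx q
    have hRC : R ≤ N ⊓ Subgroup.centralizer {y} := by
      intro r hr
      refine ⟨hRN hr, Subgroup.mem_centralizer_iff.mpr ?_⟩
      intro h hh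
      rw [Set.mem_singleton_iff.mp hh]
      by_contra hne
      exact hcon ⟨q, ⟨hq⟩, R, hRN, hRq, hRx, r, hr, fun h' => hne h'.symm⟩
    have h1 : q ^ j ∣ Nat.card R := by
      rw [hRcard]
      apply pow_dvd_pow
      exact (Nat.Prime.pow_dvd_iff_le_factorization hq Nat.card_pos.ne').mp hdvd
    exact h1.trans (Subgroup.card_dvd_of_le hRC)
  have hle : Nat.card N ≤ Nat.card (N ⊓ Subgroup.centralizer {y} : Subgroup G) :=
    Nat.le_of_dvd Nat.card_pos hC
  have heq : N ⊓ Subgroup.centralizer {y} = N := Subgroup.eq_of_le_of_card_ge inf_le_left hle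
  have hk' : k ∈ N ⊓ Subgroup.centralizer {y} := by rw [heq]; exact hk
  exact hky (Subgroup.mem_centralizer_iff.mp hk'.2 y rfl).symm

/-- Lifting an invariant `q`-subgroup of a quotient. -/
theorem exists_lift_invariant (Q : Subgroup G) [Q.Normal] (q : ℕ) [hq : Fact q.Prime]
    (Rh : Subgroup (G ⧸ Q)) (hRh : IsPGroup q Rh) (x : G)
    (hx : ∀ r ∈ Rh, (QuotientGroup.mk' Q x) * r * (QuotientGroup.mk' Q x)⁻¹ ∈ Rh) :
    ∃ (R : Subgroup G) (u : G), IsPGroup q R ∧ u ∈ Q ∧
      (∀ r ∈ R, (u⁻¹ * x) * r * (u⁻¹ * x)⁻¹ ∈ R) ∧ (∀ r ∈ R, QuotientGroup.mk' Q r ∈ Rh) ∧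
      (∀ r' ∈ Rh, ∃ r ∈ R, QuotientGroup.mk' Q r = r') := by
  obtain ⟨M, hMdef⟩ : ∃ M : Subgroup G, M = Rh.comap (QuotientGroup.mk' Q) := ⟨_, rfl⟩
  have hMmem : ∀ g, g ∈ M ↔ QuotientGroup.mk' Q g ∈ Rh := by
    intro g; rw [hMdef]; exact Subgroup.mem_comap
  obtain ⟨S⟩ : Nonempty (Sylow q M) := inferInstance
  let f : M →* Rh := ((QuotientGroup.mk' Q).comp M.subtype).codRestrict Rh
    (fun m => (hMmem _).mp m.2)
  have hf : Function.Surjective f := by
    rintro ⟨r', hr'⟩
    obtain ⟨g, rfl⟩ := QuotientGroup.mk'_surjective Q r'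
    exact ⟨⟨g, (hMmem g).mpr hr'⟩, rfl⟩
  have hT : ((S.mapSurjective hf : Sylow q Rh) : Subgroup Rh) = ⊤ :=
    ((S.mapSurjective hf).3 (hRh.to_subgroup ⊤) le_top).symm
  rw [Sylow.coe_mapSurjective] at hT
  have hsurj : ∀ r' ∈ Rh, ∃ s : M, s ∈ (S : Subgroup M) ∧ QuotientGroup.mk' Q (s : G) = r' := by
    intro r' hr'
    have : (⟨r', hr'⟩ : Rh) ∈ (S : Subgroup M).map f := by rw [hT]; exact Subgroup.mem_top _
    obtain ⟨s, hs, hs'⟩ := this
    exact ⟨s, hs, congrArg Subtype.val hs'⟩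
  have hconjM : ∀ m : M, x * (m : G) * x⁻¹ ∈ M := by
    intro m
    rw [hMmem, map_mul, map_mul, map_inv]
    exact hx _ ((hMmem _).mp m.2)
  let cx : M →* M :=
    { toFun := fun m => ⟨x * (m : G) * x⁻¹, hconjM m⟩
      map_one' := by ext; simp
      map_mul' := by intro a b; ext; simp }
  have hS'p : IsPGroup q ((S : Subgroup M).map cx) := S.isPGroup'.map cx
  obtain ⟨S'', hS''⟩ := hS'p.exists_le_sylow
  obtain ⟨m, hm⟩ := MulAction.exists_smul_eq M S S''
  obtain ⟨r₀, hr₀S, hr₀⟩ := hsurj (QuotientGroup.mk' Q (m : G)) ((hMmem _).mp m.2)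
  refine ⟨(S : Subgroup M).map M.subtype, (m : G) * (r₀ : G)⁻¹, S.isPGroup'.map _, ?_, ?_, ?_, ?_⟩
  · apply (QuotientGroup.eq_one_iff _).mp
    show QuotientGroup.mk' Q ((m : G) * (r₀ : G)⁻¹) = 1
    rw [map_mul, map_inv, hr₀, mul_inv_cancel]
  · rintro _ ⟨s, hs, rfl⟩
    have h1 : cx s ∈ (S'' : Subgroup M) := hS'' (Subgroup.mem_map_of_mem cx hs)
    rw [← hm] at h1
    have h2 : m⁻¹ * cx s * m ∈ (S : Subgroup M) := by
      have := Subgroup.mem_pointwise_smul_iff_inv_smul_mem.mp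
        (show cx s ∈ MulAut.conj m • (S : Subgroup M) from h1)
      simpa [MulAut.smul_def, MulAut.conj_inv_apply] using this
    have h3 := (S : Subgroup M).mul_mem ((S : Subgroup M).mul_mem hr₀S h2)
      ((S : Subgroup M).inv_mem hr₀S)
    refine ⟨_, h3, ?_⟩
    show (r₀ : G) * ((m : G)⁻¹ * (x * (s : G) * x⁻¹) * (m : G)) * (r₀ : G)⁻¹ = _
    simp only [Subgroup.coe_subtype]
    group
  · rintro _ ⟨s, _, rfl⟩; exact (hMmem _).mp s.2
  · intro r' hr'
    obtain ⟨s, hs, hs'⟩ := hsurj r' hr'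
    exact ⟨(s : G), ⟨s, hs, rfl⟩, hs'⟩

end Invariant

end HHP
end Cfsg.Agent.Helper63
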