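import Mathlib
import Cfsg.Prelude.Def_Local
import Cfsg.Agent.Helper32.PSolvable

/-!
# Finite solvable groups are `p`-solvable

* `exists_normal_qgroup`: a nontrivial finite solvable group has a nontrivial normal `q`-subgroup.
* `isPSolvable_extension`: `N` normal, a `p`-group or a `p'`-group, `G ⧸ N` `p`-solvable ⟹ `G`
  `p`-solvable.
* `isPSolvable_of_isSolvable`.
-/

namespace Cfsg.Agent.Helper63
namespace PSolv

open Cfsg

universe u

theorem exists_normal_qgroup (H : Type*) [Group H] [Finite H] [Group.IsSolvable H] [Nontrivial H] :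
    ∃ (q : ℕ) (_ : q.Prime) (P : Subgroup H), P ≠ ⊥ ∧ IsPGroup q P ∧ P.Normal := by
  classical
  have hex : ∃ n, derivedSeries H n = ⊥ := Group.IsSolvable.solvable
  have hn := Nat.find_spec hex
  have hmin := fun m => Nat.find_min hex (m := m)
  have hn0 : Nat.find hex ≠ 0 := by
    intro h0
    rw [h0] at hn
    exact top_ne_bot hn
  obtain ⟨m, hm⟩ := Nat.exists_eq_succ_of_ne_zero hn0
  obtain ⟨N, hN⟩ : ∃ N : Subgroup H, N = derivedSeries H m := ⟨_, rfl⟩
  have hNbot : N ≠ ⊥ := by rw [hN]; exact hmin m (by rw [hm]; exact Nat.lt_succ_self m)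
  have hNab : ⁅N, N⁆ = ⊥ := by
    rw [hm] at hn
    rw [hN]; exact hn
  have hcomm : ∀ x ∈ N, ∀ y ∈ N, x * y = y * x := by
    intro x hx y hy
    have h1 := (Subgroup.commutator_eq_bot_iff_le_centralizer.mp hNab) hy
    exact (Subgroup.mem_centralizer_iff.mp h1) x hx
  have hNnorm : N.Normal := by rw [hN]; exact derivedSeries_normal H m
  have hcard : Nat.card N ≠ 1 := fun h1 => hNbot ((Subgroup.card_eq_one).mp h1)
  obtain ⟨p, hp, hpdvd⟩ := Nat.exists_prime_and_dvd hcard
  haveI : Fact p.Prime := ⟨hp⟩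
  obtain ⟨P, hPmem⟩ : ∃ P : Subgroup H, ∀ b, b ∈ P ↔ (b ∈ N ∧ ∃ k : ℕ, b ^ p ^ k = 1) :=
    ⟨{ carrier := {b | b ∈ N ∧ ∃ k : ℕ, b ^ p ^ k = 1}
       mul_mem' := by
         rintro b b' ⟨hb, k, hk⟩ ⟨hb', k', hk'⟩
         refine ⟨N.mul_mem hb hb', k + k', ?_⟩
         have hc : Commute b b' := hcomm b hb b' hb'
         rw [hc.mul_pow, pow_add, pow_mul, hk, one_pow, one_mul, mul_comm (p ^ k), pow_mul, hk',
           one_pow]
       one_mem' := ⟨N.one_mem, 0, by simp⟩
       inv_mem' := by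
         rintro b ⟨hb, k, hk⟩
         exact ⟨N.inv_mem hb, k, by rw [inv_pow, hk, inv_one]⟩ }, fun b => Iff.rfl⟩
  refine ⟨p, hp, P, ?_, ?_, ?_⟩
  · obtain ⟨x, hx⟩ := exists_prime_orderOf_dvd_card' p hpdvd
    intro hbot
    have hxP : (x : H) ∈ P := by
      refine (hPmem _).mpr ⟨x.2, 1, ?_⟩
      have h1 : x ^ p = 1 := by rw [← hx]; exact pow_orderOf_eq_one x
      rw [pow_one]
      exact_mod_cast congrArg (fun y : N => (y : H)) h1
    rw [hbot, Subgroup.mem_bot] at hxP
    have hx1 : x = 1 := Subtype.ext hxP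
    rw [hx1, orderOf_one] at hx
    exact hp.one_lt.ne hx
  · intro g
    obtain ⟨_, k, hk⟩ := (hPmem _).mp g.2
    exact ⟨k, Subtype.ext (by simpa using hk)⟩
  · constructor
    intro b hb g
    obtain ⟨hb, k, hk⟩ := (hPmem _).mp hb
    exact (hPmem _).mpr
      ⟨hNnorm.conj_mem b hb g, k, by rw [conj_pow, hk, mul_one, mul_inv_cancel]⟩

theorem isPSolvable_extension {p : ℕ} {G : Type*} [Group G] [Finite G] (N : Subgroup G)
    [N.Normal] (hN : (∃ m : ℕ, Nat.card N = p ^ m) ∨ (Nat.card N).Coprime p)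
    (hQ : IsPSolvable p (G ⧸ N)) : IsPSolvable p G := by
  rw [Cfsg.Agent.Helper32.isPSolvable_iff_chain] at hQ ⊢
  obtain ⟨n, H, h0, hlast, hstep, hnorm, hfac⟩ := hQ
  refine ⟨n + 1, fun k => match k with
    | 0 => ⊥
    | k + 1 => (H k).comap (QuotientGroup.mk' N), rfl, ?_, ?_, ?_, ?_⟩
  · show (H n).comap (QuotientGroup.mk' N) = ⊤
    rw [hlast, Subgroup.comap_top]
  · intro k hk
    cases k with
    | zero => exact bot_le
    | succ k => exact Subgroup.comap_mono (hstep k (by omega))
  · intro k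
    cases k with
    | zero => exact (inferInstance : (⊥ : Subgroup G).Normal)
    | succ k => exact (hnorm k).comap _
  · intro k hk
    cases k with
    | zero =>
      show (∃ m : ℕ, (⊥ : Subgroup G).relIndex ((H 0).comap (QuotientGroup.mk' N)) = p ^ m) ∨
        ((⊥ : Subgroup G).relIndex ((H 0).comap (QuotientGroup.mk' N))).Coprime p
      rw [h0, MonoidHom.comap_bot, QuotientGroup.ker_mk', Subgroup.relIndex_bot_left]
      exact hN
    | succ k =>
      show (∃ m : ℕ, ((H k).comap (QuotientGroup.mk' N)).relIndex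
          ((H (k + 1)).comap (QuotientGroup.mk' N)) = p ^ m) ∨
        (((H k).comap (QuotientGroup.mk' N)).relIndex
          ((H (k + 1)).comap (QuotientGroup.mk' N))).Coprime p
      rw [Subgroup.relIndex_comap, Subgroup.map_comap_eq_self_of_surjective
        (QuotientGroup.mk'_surjective N)]
      exact hfac k (by omega)

theorem isPSolvable_of_isSolvable_aux (p : ℕ) [hp : Fact p.Prime] : ∀ (n : ℕ) (G : Type u)
    [Group G] [Finite G], Nat.card G = n → Group.IsSolvable G → IsPSolvable p G := by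
  intro n
  induction n using Nat.strong_induction_on with
  | _ n ih =>
    intro G _ _ hn hsol
    rcases subsingleton_or_nontrivial G with hsub | hnt
    · rw [Cfsg.Agent.Helper32.isPSolvable_iff_chain]
      refine ⟨0, fun _ => ⊥, rfl, Subsingleton.elim _ _, fun k hk => absurd hk (Nat.not_lt_zero k),
        fun _ => inferInstance, fun k hk => absurd hk (Nat.not_lt_zero k)⟩
    · obtain ⟨q, hq, P, hPne, hPq, hPn⟩ := exists_normal_qgroup G
      haveI := hPn
      haveI : Fact q.Prime := ⟨hq⟩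
      have hlt : Nat.card (G ⧸ P) < n := by
        rw [← hn, Subgroup.card_eq_card_quotient_mul_card_subgroup P]
        exact lt_mul_of_one_lt_right Nat.card_pos (P.one_lt_card_iff_ne_bot.mpr hPne)
      have hQ := ih _ hlt (G ⧸ P) rfl inferInstance
      refine isPSolvable_extension P ?_ hQ
      obtain ⟨j, hj⟩ := IsPGroup.iff_card.mp hPq
      by_cases hqp : q = p
      · left; exact ⟨j, by rw [hj, hqp]⟩
      · right
        rw [hj]
        exact Nat.Coprime.pow_left j ((Nat.coprime_primes hq hp.out).mpr hqp)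

theorem isPSolvable_of_isSolvable (p : ℕ) [Fact p.Prime] (G : Type u) [Group G] [Finite G]
    (h : Group.IsSolvable G) : IsPSolvable p G :=
  isPSolvable_of_isSolvable_aux p _ G rfl h

end PSolv
end Cfsg.Agent.Helper63
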