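-- helper63 library: p-group and extraspecial-group lemmas (add-only once landed).
import Mathlib
import Cfsg.Prelude.Def_Transfer

set_option autoImplicit false

namespace Cfsg.Agent.Helper63

/-- The map `s ↦ [s, x]` is a homomorphism when all these commutators are central. -/
def commHom {G : Type*} [Group G] (x : G)
    (hx : ∀ s : G, s * x * s⁻¹ * x⁻¹ ∈ Subgroup.center G) : G →* G :=
  MonoidHom.mk' (fun s => s * x * s⁻¹ * x⁻¹) (by
    intro a b
    have hb := Subgroup.mem_center_iff.mp (hx b)
    calc a * b * x * (a * b)⁻¹ * x⁻¹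
        = a * (b * x * b⁻¹ * x⁻¹) * (x * a⁻¹ * x⁻¹) := by group
      _ = (b * x * b⁻¹ * x⁻¹) * a * (x * a⁻¹ * x⁻¹) := by rw [hb a]
      _ = (b * x * b⁻¹ * x⁻¹) * (a * x * a⁻¹ * x⁻¹) := by group
      _ = (a * x * a⁻¹ * x⁻¹) * (b * x * b⁻¹ * x⁻¹) := (hb _).symm)

theorem commHom_apply {G : Type*} [Group G] (x : G)
    (hx : ∀ s : G, s * x * s⁻¹ * x⁻¹ ∈ Subgroup.center G) (s : G) :
    commHom x hx s = s * x * s⁻¹ * x⁻¹ := rfl

theorem ker_commHom {G : Type*} [Group G] (x : G)
    (hx : ∀ s : G, s * x * s⁻¹ * x⁻¹ ∈ Subgroup.center G) :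
    (commHom x hx).ker = Subgroup.centralizer ({x} : Set G) := by
  ext s
  rw [MonoidHom.mem_ker, commHom_apply, Subgroup.mem_centralizer_iff]
  constructor
  · intro h y hy
    rw [Set.mem_singleton_iff] at hy
    subst hy
    have h1 : s * y * s⁻¹ = y := mul_inv_eq_one.mp h
    have h2 : s * y = y * s := mul_inv_eq_iff_eq_mul.mp h1
    exact h2.symm
  · intro h
    have h1 : x * s = s * x := h x rfl
    rw [← h1]
    group

/-- If all commutators `[s, x]` lie in a central subgroup `Z`, then the index of the centralizer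
of `x` divides `|Z|`. -/
theorem index_centralizer_dvd {G : Type*} [Group G] [Finite G] (Z : Subgroup G) (x : G)
    (hZ : Z ≤ Subgroup.center G) (hx : ∀ s : G, s * x * s⁻¹ * x⁻¹ ∈ Z) :
    (Subgroup.centralizer ({x} : Set G)).index ∣ Nat.card Z := by
  rw [← ker_commHom x (fun s => hZ (hx s)), Subgroup.index_ker]
  apply Subgroup.card_dvd_of_le
  rintro _ ⟨s, rfl⟩
  exact hx s

/-- A finite group whose centre has index dividing a prime is commutative. -/
theorem comm_of_index_center_dvd_prime {G : Type*} [Group G] [Finite G] {p : ℕ} [Fact p.Prime]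
    (h : (Subgroup.center G).index ∣ p) : ∀ a b : G, a * b = b * a := by
  have hcyc : IsCyclic (G ⧸ Subgroup.center G) := isCyclic_of_card_dvd_prime (p := p) h
  exact (MonoidHom.isMulCommutative_of_isCyclic_of_ker_le_center
    (QuotientGroup.mk' (Subgroup.center G)) (by rw [QuotientGroup.ker_mk'])).is_comm.comm

/-- An extraspecial group is not commutative. -/
theorem extraspecial_not_comm {R : Type*} [Group R] [Finite R] {p : ℕ} [Fact p.Prime]
    (hR : Cfsg.IsExtraspecial p R) : ¬ (∀ a b : R, a * b = b * a) := by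
  intro hcomm
  obtain ⟨⟨_, _, hcz⟩, hcard⟩ := hR
  have h1 : Subgroup.center R = ⊤ := by
    rw [Subgroup.center_eq_top_iff]; exact ⟨⟨hcomm⟩⟩
  have h2 : commutator R = ⊥ := (commutator_eq_bot_iff_center_eq_top R).mpr h1
  rw [hcz] at h2
  rw [h2, Subgroup.card_bot] at hcard
  exact (Fact.out : p.Prime).one_lt.ne hcard

/-- An extraspecial group has order `p ^ k` with `k ≥ 3`. -/
theorem extraspecial_card {R : Type*} [Group R] [Finite R] {p : ℕ} [Fact p.Prime]
    (hR : Cfsg.IsExtraspecial p R) : ∃ k, 3 ≤ k ∧ Nat.card R = p ^ k := by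
  obtain ⟨k, hk⟩ := IsPGroup.iff_card.mp hR.1.1
  refine ⟨k, ?_, hk⟩
  by_contra hlt
  apply extraspecial_not_comm hR
  have hk2 : k ≤ 2 := by omega
  interval_cases k
  · have : Subsingleton R := (Nat.card_eq_one_iff_unique.mp (by simpa using hk)).1
    intro a b
    rw [Subsingleton.elim a b]
  · have hcyc : IsCyclic R := isCyclic_of_prime_card (p := p) (by simpa using hk)
    exact (MonoidHom.isMulCommutative_of_isCyclic_of_ker_le_center (MonoidHom.id R)
      (by simp)).is_comm.comm
  · exact (IsPGroup.isMulCommutative_of_card_eq_prime_sq hk).is_comm.comm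

/-- Commutators in an extraspecial group lie in the centre. -/
theorem extraspecial_comm_mem_center {R : Type*} [Group R] {p : ℕ}
    (hR : Cfsg.IsExtraspecial p R) (s g : R) : s * g * s⁻¹ * g⁻¹ ∈ Subgroup.center R := by
  rw [← hR.1.2.2]
  have := Subgroup.commutator_mem_commutator (Subgroup.mem_top s) (Subgroup.mem_top g)
  rw [commutatorElement_def] at this
  exact this

/-- In an extraspecial group every centralizer has index dividing `p`. -/
theorem extraspecial_index_centralizer {R : Type*} [Group R] [Finite R] {p : ℕ}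
    (hR : Cfsg.IsExtraspecial p R) (g : R) :
    (Subgroup.centralizer ({g} : Set R)).index ∣ p := by
  have := index_centralizer_dvd (Subgroup.center R) g le_rfl
    (fun s => extraspecial_comm_mem_center hR s g)
  rwa [hR.2] at this

/-- A subgroup of prime index together with an element outside it generates the group. -/
theorem sup_zpowers_eq_top_of_index_prime {G : Type*} [Group G] {p : ℕ} (hp : p.Prime)
    (B : Subgroup G) (hB : B.index = p) (g : G) (hg : g ∉ B) : B ⊔ Subgroup.zpowers g = ⊤ := by
  have h1 : B.relIndex (B ⊔ Subgroup.zpowers g) * (B ⊔ Subgroup.zpowers g).index = B.index :=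
    Subgroup.relIndex_mul_index le_sup_left
  rw [hB] at h1
  have h2 : B.relIndex (B ⊔ Subgroup.zpowers g) ∣ p := ⟨_, h1.symm⟩
  rcases (Nat.dvd_prime hp).mp h2 with h3 | h3
  · exfalso
    apply hg
    have := Subgroup.relIndex_eq_one.mp h3
    exact this (Subgroup.mem_sup_right (Subgroup.mem_zpowers g))
  · rw [h3] at h1
    have h4 : (B ⊔ Subgroup.zpowers g).index = 1 := by
      have : p * (B ⊔ Subgroup.zpowers g).index = p * 1 := by rw [h1, mul_one]
      exact Nat.eq_of_mul_eq_mul_left hp.pos this
    exact Subgroup.index_eq_one.mp h4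

theorem card_mul_relIndex {X : Type*} [Group X] [Finite X] (K L : Subgroup X) (h : K ≤ L) :
    Nat.card K * K.relIndex L = Nat.card L := by
  have := Subgroup.relIndex_mul_relIndex (H := (⊥ : Subgroup X)) (K := K) (L := L) bot_le h
  rwa [Subgroup.relIndex_bot_left, Subgroup.relIndex_bot_left] at this

theorem card_inf_mul_relIndex {X : Type*} [Group X] [Finite X] (A B : Subgroup X) :
    Nat.card (A ⊓ B : Subgroup X) * B.relIndex A = Nat.card A := by
  have := card_mul_relIndex (A ⊓ B) A inf_le_left
  rwa [Subgroup.inf_relIndex_left] at this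

/-- A subgroup of index `p` in a finite `p`-group is normal. -/
theorem normal_of_index_eq_prime {G : Type*} [Group G] [Finite G] {p : ℕ} [Fact p.Prime]
    (hG : IsPGroup p G) (A : Subgroup G) (hA : A.index = p) : A.Normal := by
  have hp : p.Prime := Fact.out
  apply Subgroup.normal_of_index_eq_minFac_card
  rw [hA]
  obtain ⟨n, hn⟩ := IsPGroup.iff_card.mp hG
  rw [hn]
  have hn0 : n ≠ 0 := by
    rintro rfl
    have h1 : Nat.card G = 1 := by simpa using hn
    have h2 : A.index ∣ Nat.card G := Subgroup.index_dvd_card A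
    rw [hA, h1] at h2
    exact hp.one_lt.ne' (Nat.dvd_one.mp h2)
  exact (Nat.Prime.pow_minFac hp hn0).symm

end Cfsg.Agent.Helper63
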