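-- helper63 library: order of extraspecial groups (add-only once landed).
import Mathlib
import Cfsg.Prelude.Def_Transfer
import Cfsg.Agent.Helper63.PGroups

set_option autoImplicit false

namespace Cfsg.Agent.Helper63

/-- Elements of a subgroup of order `n` have `n`-th power one. -/
theorem pow_eq_one_of_mem_of_card {G : Type*} [Group G] (Z : Subgroup G) {n : ℕ}
    (hZ : Nat.card Z = n) {z : G} (hz : z ∈ Z) : z ^ n = 1 := by
  have h := pow_card_eq_one' (G := Z) (x := ⟨z, hz⟩)
  rw [hZ] at h
  have h' := congrArg Subtype.val h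
  simpa using h'

/-- If `φ` maps into a subgroup `Z` of prime order `p` and is nontrivial on `C`, then
`C ⊓ ker φ` has index `p` in `C`. -/
theorem card_inf_ker_mul_prime {Q : Type*} [Group Q] [Finite Q] {p : ℕ} [Fact p.Prime]
    (Z : Subgroup Q) (hZ : Nat.card Z = p) (φ : Q →* Q) (hφ : ∀ s, φ s ∈ Z) (C : Subgroup Q)
    (y : Q) (hy : y ∈ C) (hy1 : φ y ≠ 1) :
    Nat.card (C ⊓ φ.ker : Subgroup Q) * p = Nat.card C := by
  have hp : p.Prime := Fact.out
  have h1 := card_inf_mul_relIndex C φ.ker
  have h2 : φ.ker.relIndex C = Nat.card (C.map φ) := Subgroup.relIndex_ker C φ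
  have h3 : Nat.card (C.map φ) = p := by
    have hle : C.map φ ≤ Z := by
      rintro _ ⟨s, _, rfl⟩; exact hφ s
    have hdvd := Subgroup.card_dvd_of_le hle
    rw [hZ] at hdvd
    rcases (Nat.dvd_prime hp).mp hdvd with h | h
    · exfalso
      have hbot := Subgroup.eq_bot_of_card_eq _ h
      have : φ y ∈ C.map φ := Subgroup.mem_map_of_mem φ hy
      rw [hbot, Subgroup.mem_bot] at this
      exact hy1 this
    · exact h
  rw [h2, h3] at h1
  exact h1

/-- A finite group whose centre has prime order `p` and contains all commutators has order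
`p ^ (1 + 2 m)`. -/
theorem card_of_center_card_prime {Q : Type*} [Group Q] [Finite Q] {p : ℕ} [Fact p.Prime]
    (hZ : Nat.card (Subgroup.center Q) = p)
    (hc : ∀ s g : Q, s * g * s⁻¹ * g⁻¹ ∈ Subgroup.center Q) :
    ∃ m, Nat.card Q = p ^ (1 + 2 * m) := by
  have hp : p.Prime := Fact.out
  have key : ∀ n, ∀ C : Subgroup Q, Nat.card C = n → Subgroup.center Q ≤ C →
      (∀ c ∈ C, (∀ d ∈ C, c * d = d * c) → c ∈ Subgroup.center Q) →
      ∃ m, Nat.card C = p ^ (1 + 2 * m) := by
    intro n
    induction n using Nat.strong_induction_on with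
    | _ n ih =>
      intro C hCn hZC hCc
      by_cases hle : C ≤ Subgroup.center Q
      · refine ⟨0, ?_⟩
        rw [le_antisymm hle hZC, hZ]; simp
      · obtain ⟨x, hxC, hxZ⟩ := SetLike.not_le_iff_exists.mp hle
        obtain ⟨y, hyC, hxy⟩ : ∃ y ∈ C, x * y ≠ y * x := by
          by_contra hcon
          push Not at hcon
          exact hxZ (hCc x hxC hcon)
        have hkx : (commHom x (fun s => hc s x)).ker = Subgroup.centralizer ({x} : Set Q) :=
          ker_commHom x _
        have hky : (commHom y (fun s => hc s y)).ker = Subgroup.centralizer ({y} : Set Q) :=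
          ker_commHom y _
        have hφxZ : ∀ s, commHom x (fun s => hc s x) s ∈ Subgroup.center Q := fun s => hc s x
        have hφyZ : ∀ s, commHom y (fun s => hc s y) s ∈ Subgroup.center Q := fun s => hc s y
        have hux : commHom x (fun s => hc s x) y ≠ 1 := by
          intro h
          have h' : y ∈ (commHom x (fun s => hc s x)).ker := h
          rw [hkx, Subgroup.mem_centralizer_iff] at h'
          exact hxy (h' x rfl)
        have huy : commHom y (fun s => hc s y) x ≠ 1 := by
          intro h
          have h' : x ∈ (commHom y (fun s => hc s y)).ker := h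
          rw [hky, Subgroup.mem_centralizer_iff] at h'
          exact hxy (h' y rfl).symm
        have hxx : commHom x (fun s => hc s x) x = 1 := by
          rw [commHom_apply]; group
        have hpow : ∀ u ∈ Subgroup.center Q, u ≠ 1 → ∀ z ∈ Subgroup.center Q,
            ∃ i : ℤ, u ^ i = z := by
          intro u hu hu1 z hz
          have hmem := mem_zpowers_of_prime_card (G := Subgroup.center Q) (g := ⟨u, hu⟩)
            (g' := ⟨z, hz⟩) hZ (by
              intro h; apply hu1; exact congrArg Subtype.val h)
          obtain ⟨i, hi⟩ := Subgroup.mem_zpowers_iff.mp hmem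
          refine ⟨i, ?_⟩
          have h' := congrArg Subtype.val hi
          simpa using h'
        have hxCx : x ∈ C ⊓ Subgroup.centralizer ({x} : Set Q) := by
          refine ⟨hxC, ?_⟩
          show x ∈ Subgroup.centralizer ({x} : Set Q)
          rw [Subgroup.mem_centralizer_iff]
          intro h hh
          rw [Set.mem_singleton_iff] at hh
          rw [hh]
        have hcard1 : Nat.card (C ⊓ Subgroup.centralizer ({x} : Set Q) : Subgroup Q) * p =
            Nat.card C := by
          rw [← hkx]
          exact card_inf_ker_mul_prime _ hZ _ hφxZ C y hyC hux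
        have hcard2 : Nat.card (C ⊓ Subgroup.centralizer ({x} : Set Q) ⊓
            Subgroup.centralizer ({y} : Set Q) : Subgroup Q) * p =
            Nat.card (C ⊓ Subgroup.centralizer ({x} : Set Q) : Subgroup Q) := by
          rw [← hky]
          exact card_inf_ker_mul_prime _ hZ _ hφyZ _ x hxCx huy
        have hDZ : Subgroup.center Q ≤ C ⊓ Subgroup.centralizer ({x} : Set Q) ⊓
            Subgroup.centralizer ({y} : Set Q) := by
          refine le_inf (le_inf hZC ?_) ?_
          · exact Subgroup.center_le_centralizer _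
          · exact Subgroup.center_le_centralizer _
        have hDc : ∀ d ∈ C ⊓ Subgroup.centralizer ({x} : Set Q) ⊓
            Subgroup.centralizer ({y} : Set Q),
            (∀ e ∈ C ⊓ Subgroup.centralizer ({x} : Set Q) ⊓
              Subgroup.centralizer ({y} : Set Q), d * e = e * d) → d ∈ Subgroup.center Q := by
          intro d hd hdD
          apply hCc d hd.1.1
          intro c hcC
          obtain ⟨i, hi⟩ := hpow _ (hφxZ y) hux _ (hφxZ c)
          have hc1 : commHom x (fun s => hc s x) (c * (y ^ i)⁻¹) = 1 := by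
            rw [map_mul, map_inv, map_zpow, hi, mul_inv_cancel]
          obtain ⟨j, hj⟩ := hpow _ (hφyZ x) huy _ (hφyZ (c * (y ^ i)⁻¹))
          have hc2y : commHom y (fun s => hc s y) (c * (y ^ i)⁻¹ * (x ^ j)⁻¹) = 1 := by
            rw [map_mul, map_inv, map_zpow, hj, mul_inv_cancel]
          have hc2x : commHom x (fun s => hc s x) (c * (y ^ i)⁻¹ * (x ^ j)⁻¹) = 1 := by
            rw [map_mul, hc1, map_inv, map_zpow, hxx]; simp
          have hc2D : c * (y ^ i)⁻¹ * (x ^ j)⁻¹ ∈ C ⊓ Subgroup.centralizer ({x} : Set Q) ⊓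
              Subgroup.centralizer ({y} : Set Q) := by
            refine ⟨⟨?_, ?_⟩, ?_⟩
            · exact C.mul_mem (C.mul_mem hcC (C.inv_mem (C.zpow_mem hyC i)))
                (C.inv_mem (C.zpow_mem hxC j))
            · rw [← hkx]; exact hc2x
            · rw [← hky]; exact hc2y
          have h1 : Commute d (c * (y ^ i)⁻¹ * (x ^ j)⁻¹) := hdD _ hc2D
          have h2 : Commute d x := (Subgroup.mem_centralizer_iff.mp hd.1.2 x rfl).symm
          have h3 : Commute d y := (Subgroup.mem_centralizer_iff.mp hd.2 y rfl).symm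
          have h4 : Commute d (c * (y ^ i)⁻¹ * (x ^ j)⁻¹ * x ^ j * y ^ i) :=
            (h1.mul_right (h2.zpow_right j)).mul_right (h3.zpow_right i)
          have h5 : c * (y ^ i)⁻¹ * (x ^ j)⁻¹ * x ^ j * y ^ i = c := by group
          rw [h5] at h4
          exact h4
        have hlt : Nat.card (C ⊓ Subgroup.centralizer ({x} : Set Q) ⊓
            Subgroup.centralizer ({y} : Set Q) : Subgroup Q) < n := by
          rw [← hCn, ← hcard1, ← hcard2]
          have hpos : 0 < Nat.card (C ⊓ Subgroup.centralizer ({x} : Set Q) ⊓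
            Subgroup.centralizer ({y} : Set Q) : Subgroup Q) := Nat.card_pos
          have h2 := hp.two_le
          nlinarith
        obtain ⟨m, hm⟩ := ih _ hlt _ rfl hDZ hDc
        refine ⟨m + 1, ?_⟩
        rw [← hcard1, ← hcard2, hm]
        ring
  obtain ⟨m, hm⟩ := key _ ⊤ rfl le_top (fun c _ hcc => by
    rw [Subgroup.mem_center_iff]
    intro g
    exact (hcc g (Subgroup.mem_top g)).symm)
  exact ⟨m, by rw [← hm, Subgroup.card_top]⟩

/-- An extraspecial group has order `p ^ (1 + 2 m)` with `m ≥ 1`. -/
theorem extraspecial_card_odd {R : Type*} [Group R] [Finite R] {p : ℕ} [Fact p.Prime]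
    (hR : Cfsg.IsExtraspecial p R) : ∃ m, 1 ≤ m ∧ Nat.card R = p ^ (1 + 2 * m) := by
  have hp : p.Prime := Fact.out
  obtain ⟨m, hm⟩ := card_of_center_card_prime hR.2
    (fun s g => extraspecial_comm_mem_center hR s g)
  obtain ⟨k, hk3, hkR⟩ := extraspecial_card hR
  refine ⟨m, ?_, hm⟩
  rw [hkR] at hm
  have := Nat.pow_right_injective hp.two_le hm
  omega

/-- In an extraspecial group, `p`-th powers are central. -/
theorem extraspecial_pow_mem_center {R : Type*} [Group R] [Finite R] {p : ℕ} [Fact p.Prime]
    (hR : Cfsg.IsExtraspecial p R) (q : R) : q ^ p ∈ Subgroup.center R := by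
  rw [Subgroup.mem_center_iff]
  intro g
  have h1 : commHom g (fun s => extraspecial_comm_mem_center hR s g) (q ^ p) = 1 := by
    rw [map_pow]
    exact pow_eq_one_of_mem_of_card _ hR.2 (extraspecial_comm_mem_center hR q g)
  have h2 : q ^ p ∈ (commHom g (fun s => extraspecial_comm_mem_center hR s g)).ker := h1
  rw [ker_commHom, Subgroup.mem_centralizer_iff] at h2
  exact h2 g rfl

/-- In an extraspecial group, `p²`-th powers are trivial. -/
theorem extraspecial_pow_sq {R : Type*} [Group R] [Finite R] {p : ℕ} [Fact p.Prime]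
    (hR : Cfsg.IsExtraspecial p R) (q : R) : (q ^ p) ^ p = 1 :=
  pow_eq_one_of_mem_of_card _ hR.2 (extraspecial_pow_mem_center hR q)

end Cfsg.Agent.Helper63
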