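import Mathlib

/-!
# CALL C9 (helper1, S1376): piece CYC (double by helper63)
-/

set_option autoImplicit false

namespace Cfsg.Agent.Helper63

open Subgroup

universe u

/-- CYC (pure).  An abelian finite group with cyclic Sylow subgroups is cyclic (Mathlib `IsZGroup`). -/
theorem c9_cyc {X : Type u} [Group X] [Finite X] (hc : ∀ a b : X, a * b = b * a)
    (hs : ∀ (s : ℕ) [Fact s.Prime] (P : Sylow s X), IsCyclic ↥(P : Subgroup X)) : IsCyclic X := by
  haveI hZ : IsZGroup X := ⟨fun p hp P => by haveI := Fact.mk hp; exact hs p P⟩
  haveI hN : Group.IsNilpotent X := by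
    let _i : CommGroup X := { (inferInstance : Group X) with mul_comm := hc }
    exact CommGroup.isNilpotent
  infer_instance

end Cfsg.Agent.Helper63
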