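import Mathlib
import Cfsg.Prelude.Def_OddOrderLocal
import Cfsg.Agent.Helper71.Fitting

/-!
# CALL C9 (helper1, S1376): piece FHN (double by helper63)
-/

set_option autoImplicit false

namespace Cfsg.Agent.Helper63

open Cfsg Subgroup

universe u

variable {G : Type u} [Group G] [Finite G]

/-- FHN.  `M_F` is nilpotent (join of normal nilpotent subgroups of the finite group `M`; probably
already on main, e.g. `Helper23`/`Helper31`). -/
theorem c9_fittingHall_nil (L : Subgroup G) : Group.IsNilpotent ↥(fittingHallOf L) := by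
  have hle : fittingHall ↥L ≤ Cfsg.fittingSubgroup ↥L := by
    apply sSup_le_sSup
    rintro K ⟨hKn, hKnil, -⟩
    exact ⟨hKn, hKnil⟩
  haveI hF : Group.IsNilpotent ↥(Cfsg.fittingSubgroup ↥L) :=
    Cfsg.Agent.Helper71.fittingSubgroup_isNilpotent ↥L
  have h1 : Group.IsNilpotent ↥((fittingHall ↥L).subgroupOf (Cfsg.fittingSubgroup ↥L)) :=
    inferInstance
  have h2 : Group.IsNilpotent ↥(fittingHall ↥L) :=
    Group.nilpotent_of_mulEquiv (Subgroup.subgroupOfEquivOfLe hle)
  have h3 : Group.IsNilpotent ↥((fittingHall ↥L).map L.subtype) :=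
    Group.nilpotent_of_mulEquiv ((fittingHall ↥L).equivMapOfInjective L.subtype
      L.subtype_injective)
  exact h3

end Cfsg.Agent.Helper63
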