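import Mathlib

/-!
# CALL C9 (helper1, S1376): piece KQ (double by helper63)
-/

set_option autoImplicit false

namespace Cfsg.Agent.Helper63

open Subgroup

universe u

variable {G : Type u} [Group G] [Finite G]

/-- KQ (pure).  A `q`-subgroup of `S` lies in the normal Sylow `q`-subgroup `Q` of `S`. -/
theorem c9_le_Q {S Q K : Subgroup G} {q : ℕ} (hq : q.Prime) (hQS : Q ≤ S)
    (hQn : S ≤ normalizer (Q : Set G)) (hQi : ¬ q ∣ Q.relIndex S) (hKS : K ≤ S)
    (hK : IsPGroup q K) : K ≤ Q := by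
  intro k hk
  haveI : (Q.subgroupOf S).Normal := (Subgroup.normal_subgroupOf_iff_le_normalizer hQS).mpr hQn
  obtain ⟨n, hn⟩ := hK ⟨k, hk⟩
  have hkq : k ^ q ^ n = 1 := by simpa using congrArg Subtype.val hn
  have h1 : orderOf (QuotientGroup.mk (⟨k, hKS hk⟩ : S) : S ⧸ Q.subgroupOf S) ∣ q ^ n := by
    apply orderOf_dvd_of_pow_eq_one
    rw [← QuotientGroup.mk_pow]
    have h0 : (⟨k, hKS hk⟩ : S) ^ q ^ n = 1 := Subtype.ext (by simpa using hkq)
    rw [h0]; rfl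
  have h2 : orderOf (QuotientGroup.mk (⟨k, hKS hk⟩ : S) : S ⧸ Q.subgroupOf S) ∣ Q.relIndex S := by
    have h0 := orderOf_dvd_natCard (QuotientGroup.mk (⟨k, hKS hk⟩ : S) : S ⧸ Q.subgroupOf S)
    rwa [← Subgroup.index_eq_card] at h0
  have h3 : orderOf (QuotientGroup.mk (⟨k, hKS hk⟩ : S) : S ⧸ Q.subgroupOf S) = 1 := by
    have hcop : Nat.Coprime (q ^ n) (Q.relIndex S) :=
      Nat.Coprime.pow_left n ((Nat.Prime.coprime_iff_not_dvd hq).mpr hQi)
    exact Nat.eq_one_of_dvd_coprimes hcop h1 h2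
  rw [orderOf_eq_one_iff, QuotientGroup.eq_one_iff] at h3
  exact Subgroup.mem_subgroupOf.mp h3

end Cfsg.Agent.Helper63
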