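import Mathlib
import Cfsg.Agent.Helper64.MaxClass
import Cfsg.Agent.Helper64.LcsComm
import Cfsg.Agent.Helper64.PolySeq
import Cfsg.Agent.Helper64.SecRank
import Cfsg.Agent.Helper31.MaxClass
import Cfsg.Agent.Helper70.Regular

/-!
# Power structure of small `p`-groups of maximal class

If `Q` has order `p ^ (2k+1)` and class `2k` with `2 ≤ k ≤ p - 2`, then `γ_k(Q)` is elementary
abelian of order `p ^ (k+1)`.  The proof uses the Hall–Petresco formula in the subgroups
`⟨c, x⟩` (`c ∈ γ_k`), which have class less than `p`, and a covering argument with the two-step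
centralizers.
-/

set_option autoImplicit false

namespace Cfsg.Agent.Helper63.MCR

open scoped commutatorElement

variable {G : Type*} [Group G]

/-- `Lc G j = γ_{j+1}(G)`. -/
abbrev Lc (G : Type*) [Group G] (j : ℕ) : Subgroup G := (⊤ : Subgroup G).lowerCentralSeries j

theorem Lc_normal (j : ℕ) : (Lc G j).Normal := by
  unfold Lc
  infer_instance

theorem Lc_anti {i j : ℕ} (h : i ≤ j) : Lc G j ≤ Lc G i :=
  (⊤ : Subgroup G).lowerCentralSeries_antitone h

theorem comm_mem_Lc {j : ℕ} {y : G} (hy : y ∈ Lc G j) (x : G) : ⁅y, x⁆ ∈ Lc G (j + 1) :=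
  Subgroup.commutator_mem_commutator hy (Subgroup.mem_top x)

/-- The two-step centralizer `C_G(γ_{m+1}/γ_{m+3})`. -/
def cen (G : Type*) [Group G] (m : ℕ) : Subgroup G where
  carrier := {x | ∀ y ∈ Lc G m, ⁅y, x⁆ ∈ Lc G (m + 2)}
  one_mem' := by
    intro y _
    have h : ⁅y, (1 : G)⁆ = 1 := by simp [commutatorElement_def]
    rw [h]
    exact one_mem _
  mul_mem' := by
    intro a b ha hb y hy
    have h : ⁅y, a * b⁆ = ⁅y, a⁆ * (a * ⁅y, b⁆ * a⁻¹) := by
      simp only [commutatorElement_def]
      group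
    rw [h]
    exact mul_mem (ha y hy) ((Lc_normal (m + 2)).conj_mem _ (hb y hy) a)
  inv_mem' := by
    intro a ha y hy
    have h : ⁅y, a⁻¹⁆ = a⁻¹ * (⁅y, a⁆)⁻¹ * a⁻¹⁻¹ := by
      simp only [commutatorElement_def]
      group
    rw [h]
    exact (Lc_normal (m + 2)).conj_mem _ (inv_mem (ha y hy)) a⁻¹

theorem mem_cen {m : ℕ} {x : G} : x ∈ cen G m ↔ ∀ y ∈ Lc G m, ⁅y, x⁆ ∈ Lc G (m + 2) := Iff.rfl

theorem cen_ne_top (m : ℕ) (h : ¬ Lc G (m + 1) ≤ Lc G (m + 2)) : cen G m ≠ ⊤ := by
  intro htop
  apply h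
  show ⁅Lc G m, (⊤ : Subgroup G)⁆ ≤ Lc G (m + 2)
  rw [Subgroup.commutator_le]
  intro y hy x _
  have hx : x ∈ cen G m := by rw [htop]; exact Subgroup.mem_top x
  exact hx y hy

/-- A finite `p`-group is not the union of fewer than `p` proper subgroups. -/
theorem exists_not_mem [Finite G] {p : ℕ} [Fact p.Prime] (hG : IsPGroup p G)
    (T : Finset (Subgroup G)) (hT : ∀ H ∈ T, H ≠ ⊤) (hcard : T.card < p) :
    ∃ x : G, ∀ H ∈ T, x ∉ H := by
  classical
  by_contra hcon
  push Not at hcon
  haveI := Fintype.ofFinite G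
  have h1 : (Finset.univ : Finset G) ⊆
      T.biUnion (fun H => Finset.univ.filter (fun x => x ∈ H)) := by
    intro x _
    obtain ⟨H, hH, hx⟩ := hcon x
    exact Finset.mem_biUnion.mpr ⟨H, hH, Finset.mem_filter.mpr ⟨Finset.mem_univ x, hx⟩⟩
  have h2 : Nat.card G ≤ ∑ H ∈ T, Nat.card H := by
    calc Nat.card G = (Finset.univ : Finset G).card := by
          rw [Nat.card_eq_fintype_card, Finset.card_univ]
      _ ≤ (T.biUnion (fun H => Finset.univ.filter (fun x => x ∈ H))).card :=
          Finset.card_le_card h1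
      _ ≤ ∑ H ∈ T, (Finset.univ.filter (fun x => x ∈ H)).card := Finset.card_biUnion_le
      _ = ∑ H ∈ T, Nat.card H := by
          apply Finset.sum_congr rfl
          intro H _
          rw [Nat.card_eq_fintype_card]
          exact (Fintype.card_of_subtype _ (fun x => by simp)).symm
  have h3 : ∀ H ∈ T, Nat.card H * p ≤ Nat.card G := by
    intro H hH
    have hlt : H < ⊤ := lt_top_iff_ne_top.mpr (hT H hH)
    have := Cfsg.Agent.Helper64.smallrank_card_mul_le_of_lt hG hlt
    rwa [Subgroup.card_top] at this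
  have h4 : (∑ H ∈ T, Nat.card H) * p ≤ T.card * Nat.card G := by
    rw [Finset.sum_mul]
    calc ∑ H ∈ T, Nat.card H * p ≤ ∑ _H ∈ T, Nat.card G := Finset.sum_le_sum h3
      _ = T.card * Nat.card G := by rw [Finset.sum_const, smul_eq_mul]
  have hpos : 0 < Nat.card G := Nat.card_pos
  have h5 : Nat.card G * p ≤ T.card * Nat.card G := (Nat.mul_le_mul_right p h2).trans h4
  have h6 : T.card * Nat.card G < p * Nat.card G := Nat.mul_lt_mul_of_pos_right hcard hpos
  have h7 : Nat.card G * p < p * Nat.card G := lt_of_le_of_lt h5 h6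
  rw [mul_comm] at h7
  exact lt_irrefl _ h7

/-- In a `p`-group of maximal class of order at least `p ^ 3`, `p`-th powers lie in the derived
subgroup. -/
theorem pow_mem_Lc_one [Finite G] {p : ℕ} [Fact p.Prime] (N : ℕ) (hN : 3 ≤ N)
    (hG : Nat.card G = p ^ N) (h1 : Nat.card (Lc G 1) = p ^ (N - 2))
    (h2 : Nat.card (Lc G 2) = p ^ (N - 3)) (x : G) : x ^ p ∈ Lc G 1 := by
  have hp := (Fact.out : p.Prime)
  haveI := Lc_normal (G := G) 1
  haveI := Lc_normal (G := G) 2
  by_contra hx
  have hcardQ : Nat.card (G ⧸ Lc G 1) = p ^ 2 := by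
    have h := Subgroup.card_eq_card_quotient_mul_card_subgroup (Lc G 1)
    rw [hG, h1] at h
    have e : p ^ N = p ^ 2 * p ^ (N - 2) := by rw [← pow_add]; congr 1; omega
    rw [e] at h
    exact (Nat.eq_of_mul_eq_mul_right (pow_pos hp.pos _) h).symm
  obtain ⟨q, hq⟩ : ∃ q : G ⧸ Lc G 1, q = (x : G ⧸ Lc G 1) := ⟨_, rfl⟩
  have hqp : q ^ p ≠ 1 := by
    intro h
    apply hx
    rw [hq, ← QuotientGroup.mk_pow] at h
    exact (QuotientGroup.eq_one_iff _).mp h
  have hord : orderOf q = p ^ 2 := by
    have hdvd : orderOf q ∣ p ^ 2 := by rw [← hcardQ]; exact orderOf_dvd_natCard q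
    obtain ⟨i, hi, hoi⟩ := (Nat.dvd_prime_pow hp).mp hdvd
    have hi2 : i = 2 := by
      by_contra hne
      have hi1 : i ≤ 1 := by omega
      apply hqp
      have hd : orderOf q ∣ p := by
        rw [hoi]
        calc p ^ i ∣ p ^ 1 := Nat.pow_dvd_pow p hi1
          _ = p := pow_one p
      exact orderOf_dvd_iff_pow_eq_one.mp hd
    rw [hoi, hi2]
  haveI hcyc : IsCyclic (G ⧸ Lc G 1) := isCyclic_of_orderOf_eq_card q (by rw [hord, hcardQ])
  let f : G ⧸ Lc G 2 →* G ⧸ Lc G 1 :=
    QuotientGroup.map (Lc G 2) (Lc G 1) (MonoidHom.id G) (by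
      intro z hz
      exact Lc_anti (i := 1) (j := 2) (by norm_num) hz)
  have hker : f.ker ≤ Subgroup.center (G ⧸ Lc G 2) := by
    intro z hz
    obtain ⟨u, rfl⟩ := QuotientGroup.mk_surjective z
    rw [MonoidHom.mem_ker] at hz
    have hu : u ∈ Lc G 1 := by
      have hfu : f (u : G ⧸ Lc G 2) = ((u : G) : G ⧸ Lc G 1) := rfl
      rw [hfu] at hz
      exact (QuotientGroup.eq_one_iff _).mp hz
    rw [Subgroup.mem_center_iff]
    intro g
    obtain ⟨y, rfl⟩ := QuotientGroup.mk_surjective g
    rw [← QuotientGroup.mk_mul, ← QuotientGroup.mk_mul, QuotientGroup.eq]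
    have e : (y * u)⁻¹ * (u * y) = ⁅u⁻¹, y⁻¹⁆ := by
      simp only [commutatorElement_def]
      group
    rw [e]
    exact comm_mem_Lc (inv_mem hu) _
  have hcomm : ∀ a b : G ⧸ Lc G 2, a * b = b * a :=
    commutative_of_cyclic_center_quotient f hker
  have hle : Lc G 1 ≤ Lc G 2 := by
    show ⁅Lc G 0, (⊤ : Subgroup G)⁆ ≤ Lc G 2
    rw [Subgroup.commutator_le]
    intro a _ b _
    rw [← QuotientGroup.eq_one_iff, commutatorElement_def]
    simp only [QuotientGroup.mk_mul, QuotientGroup.mk_inv]
    rw [hcomm (a : G ⧸ Lc G 2) b]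
    group
  have hc := Subgroup.card_le_of_le hle
  rw [h1, h2] at hc
  have : p ^ (N - 3) < p ^ (N - 2) := Nat.pow_lt_pow_right hp.one_lt (by omega)
  omega

section Main

variable [Finite G] {p : ℕ} [Fact p.Prime] {k : ℕ}

theorem Lc_bot (hc : ∀ j, 1 ≤ j → j ≤ 2 * k → Nat.card (Lc G j) = p ^ (2 * k - j))
    (hk : 1 ≤ k) : Lc G (2 * k) = ⊥ := by
  have h := hc (2 * k) (by omega) le_rfl
  rw [Nat.sub_self, pow_zero] at h
  exact Subgroup.card_eq_one.mp h

theorem Lc_not_le (hc : ∀ j, 1 ≤ j → j ≤ 2 * k → Nat.card (Lc G j) = p ^ (2 * k - j))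
    (i : ℕ) (hi1 : 1 ≤ i) (hi2 : i + 1 ≤ 2 * k) : ¬ Lc G i ≤ Lc G (i + 1) := by
  have hp := (Fact.out : p.Prime)
  intro hle
  have h := Subgroup.card_le_of_le hle
  rw [hc i hi1 (by omega), hc (i + 1) (by omega) hi2] at h
  have : p ^ (2 * k - (i + 1)) < p ^ (2 * k - i) := Nat.pow_lt_pow_right hp.one_lt (by omega)
  omega

theorem Lc_eq_sup (hc : ∀ j, 1 ≤ j → j ≤ 2 * k → Nat.card (Lc G j) = p ^ (2 * k - j))
    (m : ℕ) (hm1 : 1 ≤ m) (hm2 : m + 1 ≤ 2 * k) {w : G} (hw : w ∈ Lc G m)
    (hw' : w ∉ Lc G (m + 1)) : Subgroup.zpowers w ⊔ Lc G (m + 1) = Lc G m := by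
  have hp := (Fact.out : p.Prime)
  apply Cfsg.Agent.Helper31.eq_of_lt_le_card_mul_prime hp (A := Lc G (m + 1))
  · refine lt_of_le_of_ne le_sup_right ?_
    intro h
    apply hw'
    rw [h]
    exact Subgroup.mem_sup_left (Subgroup.mem_zpowers w)
  · exact sup_le ((Subgroup.zpowers_le).mpr hw) (Lc_anti (Nat.le_succ m))
  · rw [hc m hm1 (by omega), hc (m + 1) (by omega) hm2, ← pow_succ]
    congr 1
    omega

/-- `γ_k` is abelian in a group of maximal class of order `p ^ (2k+1)`. -/
theorem gamma_comm (hk : 2 ≤ k)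
    (hc : ∀ j, 1 ≤ j → j ≤ 2 * k → Nat.card (Lc G j) = p ^ (2 * k - j)) :
    ∀ a ∈ Lc G (k - 1), ∀ b ∈ Lc G (k - 1), a * b = b * a := by
  have hbot := Lc_bot hc (by omega)
  have hcent : ∀ a ∈ Lc G (k - 1), ∀ u ∈ Lc G k, a * u = u * a := by
    intro a ha u hu
    have h := Cfsg.Agent.Helper64.lcs_comm_le (⊤ : Subgroup G) (k - 1) k
    have e : k - 1 + k + 1 = 2 * k := by omega
    rw [e] at h
    have h2 : ⁅a, u⁆ ∈ Lc G (2 * k) := h (Subgroup.commutator_mem_commutator ha hu)
    rw [hbot, Subgroup.mem_bot] at h2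
    exact commutatorElement_eq_one_iff_mul_comm.mp h2
  have ek : k - 1 + 1 = k := by omega
  obtain ⟨c, hc1, hc2⟩ : ∃ c ∈ Lc G (k - 1), c ∉ Lc G k := by
    by_contra hcon
    push Not at hcon
    have hnl := Lc_not_le hc (k - 1) (by omega) (by omega)
    apply hnl
    rw [ek]
    exact hcon
  have hsup : Subgroup.zpowers c ⊔ Lc G k = Lc G (k - 1) := by
    have h := Lc_eq_sup hc (k - 1) (by omega) (by omega) hc1 (by rwa [ek])
    rwa [ek] at h
  have hcc : ∀ a ∈ Lc G (k - 1), c * a = a * c := by
    intro a ha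
    rw [← hsup] at ha
    have hle : Subgroup.zpowers c ⊔ Lc G k ≤ Subgroup.centralizer ({c} : Set G) := by
      apply sup_le
      · rw [Subgroup.zpowers_le, Subgroup.mem_centralizer_iff]
        intro h hh
        rw [Set.mem_singleton_iff] at hh
        rw [hh]
      · intro u hu
        rw [Subgroup.mem_centralizer_iff]
        intro h hh
        rw [Set.mem_singleton_iff] at hh
        rw [hh]
        exact hcent c hc1 u hu
    have h3 := hle ha
    rw [Subgroup.mem_centralizer_iff] at h3
    exact h3 c (Set.mem_singleton c)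
  intro a ha b hb
  have hle : Subgroup.zpowers c ⊔ Lc G k ≤ Subgroup.centralizer ({a} : Set G) := by
    apply sup_le
    · rw [Subgroup.zpowers_le, Subgroup.mem_centralizer_iff]
      intro h hh
      rw [Set.mem_singleton_iff] at hh
      rw [hh]
      exact (hcc a ha).symm
    · intro u hu
      rw [Subgroup.mem_centralizer_iff]
      intro h hh
      rw [Set.mem_singleton_iff] at hh
      rw [hh]
      exact hcent a ha u hu
  rw [← hsup] at hb
  have h3 := hle hb
  rw [Subgroup.mem_centralizer_iff] at h3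
  exact h3 a (Set.mem_singleton a)

/-- `γ_k` has exponent `p` in a group of maximal class of order `p ^ (2k+1)`, `k + 2 ≤ p`. -/
theorem gamma_exp (hk : 2 ≤ k) (hpk : k + 2 ≤ p) (hG : IsPGroup p G)
    (hcard : Nat.card G = p ^ (2 * k + 1))
    (hc : ∀ j, 1 ≤ j → j ≤ 2 * k → Nat.card (Lc G j) = p ^ (2 * k - j)) :
    ∀ a ∈ Lc G (k - 1), a ^ p = 1 := by
  classical
  have hp := (Fact.out : p.Prime)
  have hbot := Lc_bot hc (by omega)
  have hcomm := gamma_comm hk hc
  have hX : ∀ x : G, x ^ p ∈ Lc G 1 := by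
    intro x
    apply pow_mem_Lc_one (2 * k + 1) (by omega) hcard
    · rw [hc 1 le_rfl (by omega)]
      congr 1
    · rw [hc 2 (by omega) (by omega)]
      congr 1
  -- the elements of order dividing `p` in `γ_k`
  let Om : Subgroup G :=
    { carrier := {a | a ∈ Lc G (k - 1) ∧ a ^ p = 1}
      one_mem' := ⟨one_mem _, one_pow p⟩
      mul_mem' := by
        rintro a b ⟨ha, hap⟩ ⟨hb, hbp⟩
        refine ⟨mul_mem ha hb, ?_⟩
        have hab : Commute a b := hcomm a ha b hb
        rw [hab.mul_pow, hap, hbp, one_mul]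
      inv_mem' := by
        rintro a ⟨ha, hap⟩
        exact ⟨inv_mem ha, by rw [inv_pow, hap, inv_one]⟩ }
  have hOm : ∀ a, a ∈ Om → a ∈ Lc G (k - 1) ∧ a ^ p = 1 := fun a h => h
  have hOm' : ∀ a, a ∈ Lc G (k - 1) → a ^ p = 1 → a ∈ Om := fun a h1 h2 => ⟨h1, h2⟩
  have key : ∀ d, d ≤ k + 1 → Lc G (2 * k - d) ≤ Om := by
    intro d
    induction d with
    | zero =>
      intro _
      rw [Nat.sub_zero, hbot]
      exact bot_le
    | succ d ih =>
      intro hd
      have ihd := ih (by omega)
      obtain ⟨j, hj⟩ : ∃ j, j = 2 * k - (d + 1) := ⟨_, rfl⟩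
      have hj1 : 2 * k - d = j + 1 := by omega
      have hjk : k - 1 ≤ j := by omega
      have hj2k : j + 1 ≤ 2 * k := by omega
      have hj0 : 1 ≤ j := by omega
      have e1 : j - 1 + 1 = j := by omega
      have e2 : j - 1 + 2 = j + 1 := by omega
      rw [← hj]
      rw [hj1] at ihd
      -- the family of two-step centralizers to avoid
      obtain ⟨T, hTdef⟩ : ∃ T : Finset (Subgroup G),
          T = insert (cen G (j - 1)) ((Finset.Icc 1 k).image (cen G)) := ⟨_, rfl⟩
      have hTcard : T.card < p := by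
        have h1 : T.card ≤ ((Finset.Icc 1 k).image (cen G)).card + 1 := by
          rw [hTdef]
          exact Finset.card_insert_le _ _
        have h2 : ((Finset.Icc 1 k).image (cen G)).card ≤ (Finset.Icc 1 k).card :=
          Finset.card_image_le
        have h3 : (Finset.Icc 1 k).card = k := by simp
        omega
      have hTtop : ∀ H ∈ T, H ≠ ⊤ := by
        intro H hH
        rw [hTdef] at hH
        rcases Finset.mem_insert.mp hH with hH | hH
        · rw [hH]
          apply cen_ne_top
          rw [e1, e2]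
          exact Lc_not_le hc j hj0 hj2k
        · obtain ⟨m, hm, hmH⟩ := Finset.mem_image.mp hH
          rw [Finset.mem_Icc] at hm
          rw [← hmH]
          apply cen_ne_top
          exact Lc_not_le hc (m + 1) (by omega) (by omega)
      obtain ⟨x, hx⟩ := exists_not_mem hG T hTtop hTcard
      have hx0 : x ∉ cen G (j - 1) := by
        apply hx
        rw [hTdef]
        exact Finset.mem_insert_self _ _
      have hxm : ∀ m, 1 ≤ m → m ≤ k → x ∉ cen G m := by
        intro m hm1 hm2
        apply hx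
        rw [hTdef]
        exact Finset.mem_insert_of_mem
          (Finset.mem_image.mpr ⟨m, Finset.mem_Icc.mpr ⟨hm1, hm2⟩, rfl⟩)
      rw [mem_cen] at hx0
      push Not at hx0
      obtain ⟨g, hg, hgx⟩ := hx0
      rw [e2] at hgx
      obtain ⟨c, hcdef⟩ : ∃ c : G, c = ⁅g, x⁆ := ⟨_, rfl⟩
      rw [← hcdef] at hgx
      have hcj : c ∈ Lc G j := by
        have h := comm_mem_Lc hg x
        rw [e1, ← hcdef] at h
        exact h
      -- it suffices to show `c ^ p = 1`
      suffices hcp : c ^ p = 1 by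
        have hsup := Lc_eq_sup hc j hj0 hj2k hcj hgx
        rw [← hsup]
        apply sup_le
        · rw [Subgroup.zpowers_le]
          exact hOm' c (Lc_anti hjk hcj) hcp
        · exact ihd
      by_contra hcp
      -- the class of `⟨c, x⟩` is less than `p`
      have hcl1 : ⁅Subgroup.closure ({c, x} : Set G), Subgroup.closure ({c, x} : Set G)⁆ ≤
          Lc G (j + 1) := by
        apply Cfsg.Agent.Helper70.commutator_le_of_gens
        · intro y _
          rw [Subgroup.mem_normalizer_iff]
          intro e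
          constructor
          · intro he
            exact (Lc_normal (G := G) (j + 1)).conj_mem e he y
          · intro he
            have h := (Lc_normal (G := G) (j + 1)).conj_mem _ he y⁻¹
            have e' : y⁻¹ * (y * e * y⁻¹) * y⁻¹⁻¹ = e := by group
            rwa [e'] at h
        · intro s hs t ht
          have hs' : s = c ∨ s = x := hs
          have ht' : t = c ∨ t = x := ht
          rcases hs' with hs' | hs' <;> rcases ht' with ht' | ht' <;> rw [hs', ht']
          · rw [commutatorElement_self]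
            exact one_mem _
          · exact comm_mem_Lc hcj _
          · rw [← commutatorElement_inv]
            exact inv_mem (comm_mem_Lc hcj _)
          · rw [commutatorElement_self]
            exact one_mem _
      have hcl : ∀ i, 1 ≤ i →
          (Subgroup.closure ({c, x} : Set G)).lowerCentralSeries i ≤ Lc G (j + i) := by
        intro i hi
        induction i with
        | zero => omega
        | succ i ih =>
          rcases Nat.eq_zero_or_pos i with hi0 | hi0
          · rw [hi0]
            exact hcl1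
          · have h := ih hi0
            calc (Subgroup.closure ({c, x} : Set G)).lowerCentralSeries (i + 1)
                = ⁅(Subgroup.closure ({c, x} : Set G)).lowerCentralSeries i,
                    Subgroup.closure ({c, x} : Set G)⁆ := rfl
              _ ≤ ⁅Lc G (j + i), (⊤ : Subgroup G)⁆ := Subgroup.commutator_mono h le_top
              _ = Lc G (j + (i + 1)) := rfl
      have hclp : (Subgroup.closure ({c, x} : Set G)).lowerCentralSeries (p - 1) = ⊥ := by
        rw [eq_bot_iff, ← hbot]
        exact (hcl (p - 1) (by omega)).trans (Lc_anti (by omega))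
      obtain ⟨d', hd', hmul⟩ :=
        Cfsg.Agent.Helper64.mul_pow_prime_pow_of_lcs_eq_bot c x 1 hclp
      have hd1 : d' = 1 := by
        have hle : Cfsg.powerClosure p 1
            ⁅Subgroup.closure ({c, x} : Set G), Subgroup.closure ({c, x} : Set G)⁆ ≤ ⊥ := by
          unfold Cfsg.powerClosure
          rw [Subgroup.closure_le]
          rintro y ⟨z, hz, rfl⟩
          have hz' := hOm z (ihd (hcl1 hz))
          rw [pow_one, SetLike.mem_coe, Subgroup.mem_bot]
          exact hz'.2
        exact Subgroup.mem_bot.mp (hle hd')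
      rw [hd1, mul_one, pow_one] at hmul
      have hcx : c * x = g * x * g⁻¹ := by
        rw [hcdef, commutatorElement_def]
        group
      rw [hcx, conj_pow] at hmul
      obtain ⟨w, hw⟩ : ∃ w : G, w = x ^ p := ⟨_, rfl⟩
      rw [← hw] at hmul
      have hcp' : c ^ p = ⁅g, w⁆ := by
        rw [commutatorElement_def, hmul, mul_inv_cancel_right]
      have hw1 : w ≠ 1 := by
        intro h
        apply hcp
        rw [hcp', h]
        simp [commutatorElement_def]
      have hwL1 : w ∈ Lc G 1 := by rw [hw]; exact hX x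
      -- the layer of `w`
      have hex : ∃ i, w ∉ Lc G i := ⟨2 * k, by rw [hbot, Subgroup.mem_bot]; exact hw1⟩
      obtain ⟨m', hm'⟩ : ∃ m', m' = Nat.find hex := ⟨_, rfl⟩
      have hm'spec : w ∉ Lc G m' := by rw [hm']; exact Nat.find_spec hex
      have hm'min : ∀ i, i < m' → w ∈ Lc G i := by
        intro i hi
        by_contra h
        rw [hm'] at hi
        exact Nat.find_min hex hi h
      have hm'2 : 2 ≤ m' := by
        by_contra h
        have h1 : m' ≤ 1 := by omega
        exact hm'spec (Lc_anti h1 hwL1)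
      obtain ⟨m, hmm⟩ : ∃ m, m' = m + 1 := ⟨m' - 1, by omega⟩
      rw [hmm] at hm'spec
      have hwm : w ∈ Lc G m := hm'min m (by omega)
      have hm1 : 1 ≤ m := by omega
      have hmk : m ≤ k := by
        by_contra h
        apply hcp
        rw [hcp']
        have h1 := Cfsg.Agent.Helper64.lcs_comm_le (⊤ : Subgroup G) (j - 1) m
        have h2 : ⁅g, w⁆ ∈ Lc G (j - 1 + m + 1) :=
          h1 (Subgroup.commutator_mem_commutator hg hwm)
        have h3 : Lc G (j - 1 + m + 1) ≤ Lc G (2 * k) := Lc_anti (by omega)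
        have h4 := h3 h2
        rw [hbot, Subgroup.mem_bot] at h4
        exact h4
      -- `x` lies in the two-step centralizer `cen m`
      apply hxm m hm1 hmk
      rw [mem_cen]
      intro y hy
      have hsup := Lc_eq_sup hc m hm1 (by omega) hwm hm'spec
      rw [← hsup] at hy
      haveI := Lc_normal (G := G) (m + 1)
      obtain ⟨a, ha, u, hu, hau⟩ := Subgroup.mem_sup_of_normal_right.mp hy
      have hax : ⁅a, x⁆ = 1 := by
        rw [commutatorElement_eq_one_iff_commute]
        obtain ⟨z, hz⟩ := Subgroup.mem_zpowers_iff.mp ha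
        rw [← hz, hw]
        exact ((Commute.refl x).pow_left p).zpow_left z
      have e : ⁅a * u, x⁆ = a * ⁅u, x⁆ * a⁻¹ * ⁅a, x⁆ := by
        simp only [commutatorElement_def]
        group
      rw [← hau, e, hax, mul_one]
      exact (Lc_normal (G := G) (m + 2)).conj_mem _ (comm_mem_Lc hu x) a
  intro a ha
  have h := key (k + 1) le_rfl
  have e : 2 * k - (k + 1) = k - 1 := by omega
  rw [e] at h
  exact (hOm a (h ha)).2

end Main

end Cfsg.Agent.Helper63.MCR
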