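-- helper63: piece P6A of CALL S4404 (helper16): the commutator `c = [g, x]` is trivial on `M`
-- or `p = 7` and `[c, M]` has order 8 and contains `V`.
import Mathlib
import Cfsg.Agent.Helper16.NGDefs
import Cfsg.Agent.Helper36.NGFACTS
import Cfsg.Agent.Helper10.NGLTS

set_option autoImplicit false

namespace Cfsg.Agent.Helper63.NGP6A
open Cfsg.Agent.Helper16.NG

variable {S : Type*} [Group S]

/-- The product `V · gVg⁻¹` inside the abelian normal subgroup `M`. -/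
def Wsub (M V : Subgroup S) (hM : M.Normal) (hcomm : ∀ a ∈ M, ∀ b ∈ M, a * b = b * a)
    (hVM : V ≤ M) (g : S) : Subgroup S where
  carrier := {w | ∃ v₁ ∈ V, ∃ v₂ ∈ V, w = v₁ * (g * v₂ * g⁻¹)}
  mul_mem' := by
    rintro a b ⟨v₁, h₁, v₂, h₂, rfl⟩ ⟨u₁, k₁, u₂, k₂, rfl⟩
    refine ⟨v₁ * u₁, V.mul_mem h₁ k₁, v₂ * u₂, V.mul_mem h₂ k₂, ?_⟩
    have e : (g * v₂ * g⁻¹) * u₁ = u₁ * (g * v₂ * g⁻¹) :=
      hcomm _ (hM.conj_mem _ (hVM h₂) g) _ (hVM k₁)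
    calc v₁ * (g * v₂ * g⁻¹) * (u₁ * (g * u₂ * g⁻¹))
        = v₁ * ((g * v₂ * g⁻¹) * u₁) * (g * u₂ * g⁻¹) := by group
      _ = v₁ * (u₁ * (g * v₂ * g⁻¹)) * (g * u₂ * g⁻¹) := by rw [e]
      _ = v₁ * u₁ * (g * (v₂ * u₂) * g⁻¹) := by group
  one_mem' := ⟨1, V.one_mem, 1, V.one_mem, by group⟩
  inv_mem' := by
    rintro a ⟨v₁, h₁, v₂, h₂, rfl⟩
    refine ⟨v₁⁻¹, V.inv_mem h₁, v₂⁻¹, V.inv_mem h₂, ?_⟩
    have e : (g * v₂⁻¹ * g⁻¹) * v₁⁻¹ = v₁⁻¹ * (g * v₂⁻¹ * g⁻¹) :=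
      hcomm _ (hM.conj_mem _ (hVM (V.inv_mem h₂)) g) _ (hVM (V.inv_mem h₁))
    calc (v₁ * (g * v₂ * g⁻¹))⁻¹ = (g * v₂⁻¹ * g⁻¹) * v₁⁻¹ := by group
      _ = v₁⁻¹ * (g * v₂⁻¹ * g⁻¹) := e

theorem mem_Wsub (M V : Subgroup S) (hM : M.Normal) (hcomm : ∀ a ∈ M, ∀ b ∈ M, a * b = b * a)
    (hVM : V ≤ M) (g w : S) :
    w ∈ Wsub M V hM hcomm hVM g ↔ ∃ v₁ ∈ V, ∃ v₂ ∈ V, w = v₁ * (g * v₂ * g⁻¹) := Iff.rfl

theorem card_Wsub_le [Finite S] (M V : Subgroup S) (hM : M.Normal)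
    (hcomm : ∀ a ∈ M, ∀ b ∈ M, a * b = b * a) (hVM : V ≤ M) (g : S) :
    Nat.card (Wsub M V hM hcomm hVM g) ≤ Nat.card V * Nat.card V := by
  rw [← Nat.card_prod]
  apply Nat.card_le_card_of_surjective (fun q : V × V =>
    (⟨(q.1 : S) * (g * (q.2 : S) * g⁻¹), ⟨q.1, q.1.2, q.2, q.2.2, rfl⟩⟩ : Wsub M V hM hcomm hVM g))
  rintro ⟨w, v₁, h₁, v₂, h₂, rfl⟩
  exact ⟨(⟨v₁, h₁⟩, ⟨v₂, h₂⟩), rfl⟩

/-- The elements normalizing `W` and acting trivially on `M / W`. -/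
def Nsub (M W : Subgroup S) : Subgroup S where
  carrier := {t | (∀ w ∈ W, t * w * t⁻¹ ∈ W) ∧ (∀ w ∈ W, t⁻¹ * w * t ∈ W) ∧
    (∀ m ∈ M, t * m * t⁻¹ * m⁻¹ ∈ W) ∧ (∀ m ∈ M, t⁻¹ * m * t * m⁻¹ ∈ W)}
  mul_mem' := by
    rintro a b ⟨a1, a2, a3, a4⟩ ⟨b1, b2, b3, b4⟩
    refine ⟨fun w hw => ?_, fun w hw => ?_, fun m hm => ?_, fun m hm => ?_⟩
    · have h1 := a1 _ (b1 w hw)
      have e : a * b * w * (a * b)⁻¹ = a * (b * w * b⁻¹) * a⁻¹ := by group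
      rw [e]; exact h1
    · have h1 := b2 _ (a2 w hw)
      have e : (a * b)⁻¹ * w * (a * b) = b⁻¹ * (a⁻¹ * w * a) * b := by group
      rw [e]; exact h1
    · have h1 := a1 _ (b3 m hm)
      have h2 := a3 m hm
      have e : a * b * m * (a * b)⁻¹ * m⁻¹
          = a * (b * m * b⁻¹ * m⁻¹) * a⁻¹ * (a * m * a⁻¹ * m⁻¹) := by group
      rw [e]; exact W.mul_mem h1 h2
    · have h1 := b2 _ (a4 m hm)
      have h2 := b4 m hm
      have e : (a * b)⁻¹ * m * (a * b) * m⁻¹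
          = b⁻¹ * (a⁻¹ * m * a * m⁻¹) * b * (b⁻¹ * m * b * m⁻¹) := by group
      rw [e]; exact W.mul_mem h1 h2
  one_mem' := ⟨fun w hw => by simpa using hw, fun w hw => by simpa using hw,
    fun m _ => by simp, fun m _ => by simp⟩
  inv_mem' := by
    rintro a ⟨a1, a2, a3, a4⟩
    refine ⟨fun w hw => ?_, fun w hw => ?_, fun m hm => ?_, fun m hm => ?_⟩
    · simpa using a2 w hw
    · simpa using a1 w hw
    · simpa using a4 m hm
    · simpa using a3 m hm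

theorem mem_Nsub (M W : Subgroup S) (t : S) :
    t ∈ Nsub M W ↔ ((∀ w ∈ W, t * w * t⁻¹ ∈ W) ∧ (∀ w ∈ W, t⁻¹ * w * t ∈ W) ∧
    (∀ m ∈ M, t * m * t⁻¹ * m⁻¹ ∈ W) ∧ (∀ m ∈ M, t⁻¹ * m * t * m⁻¹ ∈ W)) := Iff.rfl

theorem mem_Nsub_of {M W : Subgroup S} (hM : M.Normal) (hWM : W ≤ M) (t : S)
    (ht : ∀ m ∈ M, t * m * t⁻¹ * m⁻¹ ∈ W) : t ∈ Nsub M W := by
  have h4 : ∀ m ∈ M, t⁻¹ * m * t * m⁻¹ ∈ W := by
    intro m hm
    have hm2 : t⁻¹ * m * t ∈ M := by simpa using hM.conj_mem m hm t⁻¹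
    have h1 := W.inv_mem (ht _ hm2)
    have e : (t * (t⁻¹ * m * t) * t⁻¹ * (t⁻¹ * m * t)⁻¹)⁻¹ = t⁻¹ * m * t * m⁻¹ := by group
    rw [e] at h1; exact h1
  refine (mem_Nsub M W t).mpr ⟨fun w hw => ?_, fun w hw => ?_, ht, h4⟩
  · have h1 := W.mul_mem (ht w (hWM hw)) hw
    have e : t * w * t⁻¹ * w⁻¹ * w = t * w * t⁻¹ := by group
    rw [e] at h1; exact h1
  · have h1 := W.mul_mem (h4 w (hWM hw)) hw
    have e : t⁻¹ * w * t * w⁻¹ * w = t⁻¹ * w * t := by group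
    rw [e] at h1; exact h1

theorem p6a_mod5 : ∀ r < 5, (1 + r + r * r) % 5 ≠ 0 := by decide

theorem p6a_mod7 : ∀ r < 7, (1 + r + r * r) % 7 = 0 → r = 2 ∨ r = 4 := by decide

/-- P6A -/
theorem ng_p6a [Finite S] {M V : Subgroup S} {x : S} (h : Cfg M V x) (p : ℕ) (hp : p.Prime) (hp5 : 5 ≤ p)
    (P : Subgroup S) (hP : IsPGroup p ↥P) (hxP : ∀ a ∈ P, x * a * x⁻¹ ∈ P) (g : S) (hg : g ∈ P) :
    g * x * g⁻¹ * x⁻¹ ∈ Subgroup.centralizer (M : Set S) ∨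
    (p = 7 ∧ (g * x * g⁻¹ * x⁻¹) ^ 7 ∈ Subgroup.centralizer (M : Set S) ∧
      Nat.card (U M (g * x * g⁻¹ * x⁻¹)) = 8 ∧ V ≤ U M (g * x * g⁻¹ * x⁻¹)) := by
  classical
  haveI hMn : M.Normal := h.normal
  haveI hpF : Fact p.Prime := ⟨hp⟩
  obtain ⟨c, hcdef⟩ : ∃ c : S, c = g * x * g⁻¹ * x⁻¹ := ⟨_, rfl⟩
  rw [← hcdef]
  obtain ⟨CM, hCMdef⟩ : ∃ CM : Subgroup S, CM = Subgroup.centralizer (M : Set S) := ⟨_, rfl⟩
  rw [← hCMdef]
  haveI hCMn : CM.Normal := by rw [hCMdef]; infer_instance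
  have hCM : ∀ z : S, z ∈ CM ↔ ∀ m ∈ M, z * m * z⁻¹ = m := by
    intro z
    rw [hCMdef, Subgroup.mem_centralizer_iff]
    constructor
    · intro hz m hm
      have h1 : m * z = z * m := hz m hm
      rw [← h1]; group
    · intro hz m hm
      have h1 := hz m hm
      calc m * z = (z * m * z⁻¹) * z := by rw [h1]
        _ = z * m := by group
  by_cases hcC : c ∈ CM
  · exact Or.inl hcC
  right
  have hMconj : ∀ (a : S), ∀ m ∈ M, a * m * a⁻¹ ∈ M := fun a m hm => hMn.conj_mem m hm a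
  have hcP : c ∈ P := by
    have h1 := hxP g⁻¹ (P.inv_mem hg)
    have e : c = g * (x * g⁻¹ * x⁻¹) := by rw [hcdef]; group
    rw [e]; exact P.mul_mem hg h1
  have hVM : V ≤ M := Cfsg.Agent.Helper36.NGFACTS.ng_V_le h
  obtain ⟨W, hWdef⟩ : ∃ W : Subgroup S, W = Wsub M V hMn h.comm hVM g := ⟨_, rfl⟩
  have hWmem : ∀ w : S, w ∈ W ↔ ∃ v₁ ∈ V, ∃ v₂ ∈ V, w = v₁ * (g * v₂ * g⁻¹) := by
    intro w; rw [hWdef]; exact mem_Wsub M V hMn h.comm hVM g w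
  have hWM : W ≤ M := by
    intro w hw
    obtain ⟨v₁, h₁, v₂, h₂, rfl⟩ := (hWmem w).mp hw
    exact M.mul_mem (hVM h₁) (hMconj g _ (hVM h₂))
  have hW16 : Nat.card W ≤ 16 := by
    have h1 := card_Wsub_le M V hMn h.comm hVM g
    rw [h.card] at h1
    rw [hWdef]; exact h1
  have hVW : V ≤ W := fun v hv => (hWmem v).mpr ⟨v, hv, 1, V.one_mem, by group⟩
  have hV'W : ∀ v ∈ V, g * v * g⁻¹ ∈ W := fun v hv => (hWmem _).mpr ⟨1, V.one_mem, v, hv, by group⟩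
  have hxN : x ∈ Nsub M W :=
    mem_Nsub_of hMn hWM x (fun m hm => hVW ((h.hV _).mpr ⟨m, hm, rfl⟩))
  have hyN : g * x * g⁻¹ ∈ Nsub M W := mem_Nsub_of hMn hWM _ (fun m hm => by
    have hn : g⁻¹ * m * g ∈ M := by simpa using hMconj g⁻¹ m hm
    have hv : x * (g⁻¹ * m * g) * x⁻¹ * (g⁻¹ * m * g)⁻¹ ∈ V := (h.hV _).mpr ⟨_, hn, rfl⟩
    have e : g * x * g⁻¹ * m * (g * x * g⁻¹)⁻¹ * m⁻¹
        = g * (x * (g⁻¹ * m * g) * x⁻¹ * (g⁻¹ * m * g)⁻¹) * g⁻¹ := by group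
    rw [e]; exact hV'W _ hv)
  have hcN : c ∈ Nsub M W := by
    rw [hcdef]; exact (Nsub M W).mul_mem hyN ((Nsub M W).inv_mem hxN)
  obtain ⟨d, hddef⟩ : ∃ d : S, d = x * c * x⁻¹ := ⟨_, rfl⟩
  have hdN : d ∈ Nsub M W := by
    rw [hddef]; exact (Nsub M W).mul_mem ((Nsub M W).mul_mem hxN hcN) ((Nsub M W).inv_mem hxN)
  have hdP : d ∈ P := by rw [hddef]; exact hxP c hcP
  obtain ⟨T, hTdef⟩ : ∃ T : Subgroup S, T = P ⊓ Nsub M W := ⟨_, rfl⟩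
  have hTP : T ≤ P := by rw [hTdef]; exact inf_le_left
  have hTN : T ≤ Nsub M W := by rw [hTdef]; exact inf_le_right
  have hT : IsPGroup p ↥T := hP.to_le hTP
  have hcT : c ∈ T := by rw [hTdef]; exact ⟨hcP, hcN⟩
  have hdT : d ∈ T := by rw [hTdef]; exact ⟨hdP, hdN⟩
  have hidx := Cfsg.Agent.Helper10.NGLTS.ng_LTS M h.comm h.sq W hWM hW16 p hp hp5 T hT
    (fun t ht w hw => ((mem_Nsub M W t).mp (hTN ht)).1 w hw)
    (fun t ht m hm => ((mem_Nsub M W t).mp (hTN ht)).2.2.1 m hm)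
  rw [← hCMdef] at hidx
  -- the quotient `T / (T ∩ CM)` has order `p`
  obtain ⟨Kt, hKtdef⟩ : ∃ Kt : Subgroup ↥T, Kt = CM.subgroupOf T := ⟨_, rfl⟩
  haveI hKtn : Kt.Normal := by rw [hKtdef]; exact hCMn.subgroupOf T
  have hKtmem : ∀ t : ↥T, t ∈ Kt ↔ (t : S) ∈ CM := by
    intro t; rw [hKtdef]; exact Subgroup.mem_subgroupOf
  have hKtidx : Kt.index = (T ⊓ CM).relIndex T := by
    rw [hKtdef, Subgroup.relIndex, Subgroup.inf_subgroupOf_left]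
  obtain ⟨n, hn⟩ := hT.index Kt
  have hcK : (⟨c, hcT⟩ : ↥T) ∉ Kt := fun hc => hcC ((hKtmem _).mp hc)
  have hn0 : n ≠ 0 := by
    rintro rfl
    rw [pow_zero] at hn
    have h1 : Kt = ⊤ := Subgroup.index_eq_one.mp hn
    exact hcK (by rw [h1]; exact Subgroup.mem_top _)
  have hple : p ^ n ≤ 7 := by rw [← hn, hKtidx]; exact hidx
  have hn1 : n = 1 := by
    by_contra hne
    have h2 : 2 ≤ n := by omega
    have h3 : p ^ 2 ≤ p ^ n := Nat.pow_le_pow_right (by omega) h2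
    have h4 : 5 ^ 2 ≤ p ^ 2 := Nat.pow_le_pow_left hp5 2
    omega
  rw [hn1, pow_one] at hn hple
  have hcpK : (⟨c, hcT⟩ : ↥T) ^ p ∈ Kt := by
    have h1 := Kt.pow_index_mem (⟨c, hcT⟩ : ↥T)
    rw [hn] at h1; exact h1
  have hcp : c ^ p ∈ CM := by
    have h1 := (hKtmem _).mp hcpK
    simpa using h1
  -- `d ≡ c ^ k`
  have hk : ∃ k : ℕ, (c ^ k)⁻¹ * d ∈ CM := by
    have hcard : Nat.card (↥T ⧸ Kt) = p := by rw [← Subgroup.index_eq_card, hn]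
    have hc1 : ((⟨c, hcT⟩ : ↥T) : ↥T ⧸ Kt) ≠ 1 := by
      intro h1
      exact hcK ((QuotientGroup.eq_one_iff _).mp h1)
    have htop := zpowers_eq_top_of_prime_card hcard hc1
    have hdmem : ((⟨d, hdT⟩ : ↥T) : ↥T ⧸ Kt) ∈ Subgroup.zpowers ((⟨c, hcT⟩ : ↥T) : ↥T ⧸ Kt) := by
      rw [htop]; exact Subgroup.mem_top _
    rw [← mem_powers_iff_mem_zpowers] at hdmem
    obtain ⟨k, hk⟩ := hdmem
    refine ⟨k, ?_⟩
    have h2 : (((⟨c, hcT⟩ : ↥T) ^ k : ↥T) : ↥T ⧸ Kt) = ((⟨d, hdT⟩ : ↥T) : ↥T ⧸ Kt) := by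
      rw [QuotientGroup.mk_pow]; exact hk
    have h3 := QuotientGroup.eq.mp h2
    have h4 := (hKtmem _).mp h3
    simpa using h4
  obtain ⟨k, hk⟩ := hk
  -- computations in `S / CM`
  obtain ⟨C, hCdef⟩ : ∃ C : S ⧸ CM, C = (c : S ⧸ CM) := ⟨_, rfl⟩
  obtain ⟨X, hXdef⟩ : ∃ X : S ⧸ CM, X = (x : S ⧸ CM) := ⟨_, rfl⟩
  have hC1 : C ≠ 1 := by
    rw [hCdef]; intro h1
    exact hcC ((QuotientGroup.eq_one_iff _).mp h1)
  have hCp : C ^ p = 1 := by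
    rw [hCdef, ← QuotientGroup.mk_pow]
    exact (QuotientGroup.eq_one_iff _).mpr hcp
  have hx3 : x ^ 3 ∈ CM := (hCM _).mpr h.cube
  have hX3 : X ^ 3 = 1 := by
    rw [hXdef, ← QuotientGroup.mk_pow]
    exact (QuotientGroup.eq_one_iff _).mpr hx3
  have hY3 : (C * X) ^ 3 = 1 := by
    rw [hCdef, hXdef, ← QuotientGroup.mk_mul, ← QuotientGroup.mk_pow]
    apply (QuotientGroup.eq_one_iff _).mpr
    have e0 : c * x = g * x * g⁻¹ := by rw [hcdef]; group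
    have e : (c * x) ^ 3 = g * x ^ 3 * g⁻¹ := by rw [e0, conj_pow]
    rw [e]
    exact hCMn.conj_mem _ hx3 g
  have hD : X * C * X⁻¹ = C ^ k := by
    rw [hCdef, hXdef, ← QuotientGroup.mk_inv, ← QuotientGroup.mk_mul, ← QuotientGroup.mk_mul,
      ← QuotientGroup.mk_pow, ← hddef]
    exact (QuotientGroup.eq.mpr hk).symm
  have hCk : C ^ (1 + k + k * k) = 1 := by
    have e1 : (C * X) ^ 3 = C * (X * C * X⁻¹) * (X * (X * C * X⁻¹) * X⁻¹) * X ^ 3 := by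
      have e0 : (C * X) ^ 3 = (C * X) * (C * X) * (C * X) := by rw [pow_succ, pow_succ, pow_one]
      rw [e0]; group
    have e2 : X * C ^ k * X⁻¹ = (X * C * X⁻¹) ^ k := by rw [conj_pow]
    rw [hY3, hD, e2, hD, hX3, mul_one] at e1
    rw [pow_add, pow_add, pow_one, pow_mul]
    exact e1.symm
  have hordC : orderOf C = p := orderOf_eq_prime hCp hC1
  have hpdvd : p ∣ 1 + k + k * k := by
    rw [← hordC]; exact orderOf_dvd_of_pow_eq_one hCk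
  have hp7 : p = 7 := by
    have hp57 : p = 5 ∨ p = 6 ∨ p = 7 := by omega
    rcases hp57 with h5 | h6 | h7
    · exfalso
      rw [h5] at hpdvd
      have h1 : (1 + k + k * k) % 5 = 0 := Nat.mod_eq_zero_of_dvd hpdvd
      have h2 : (1 + k % 5 + (k % 5) * (k % 5)) % 5 = 0 := by
        rw [← h1]; simp [Nat.add_mod, Nat.mul_mod]
      exact p6a_mod5 (k % 5) (Nat.mod_lt _ (by norm_num)) h2
    · exfalso
      rw [h6] at hp
      exact absurd hp (by norm_num)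
    · exact h7
  subst hp7
  have hk7 : k % 7 = 2 ∨ k % 7 = 4 := by
    have h1 : (1 + k + k * k) % 7 = 0 := Nat.mod_eq_zero_of_dvd hpdvd
    have h2 : (1 + k % 7 + (k % 7) * (k % 7)) % 7 = 0 := by
      rw [← h1]; simp [Nat.add_mod, Nat.mul_mod]
    exact p6a_mod7 (k % 7) (Nat.mod_lt _ (by norm_num)) h2
  -- the subgroup `U = [c, M]`
  obtain ⟨Uc, hUdef⟩ : ∃ Uc : Subgroup S, Uc = U M c := ⟨_, rfl⟩
  rw [← hUdef]
  have hUgen : ∀ m ∈ M, c * m * c⁻¹ * m⁻¹ ∈ Uc := by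
    intro m hm
    rw [hUdef]
    exact Subgroup.subset_closure ⟨m, hm, rfl⟩
  have hUrep : ∀ u ∈ Uc, ∃ m ∈ M, u = c * m * c⁻¹ * m⁻¹ := by
    intro u hu
    rw [hUdef] at hu
    refine Subgroup.closure_induction (p := fun u _ => ∃ m ∈ M, u = c * m * c⁻¹ * m⁻¹)
      ?_ ?_ ?_ ?_ hu
    · rintro y ⟨m, hm, rfl⟩
      exact ⟨m, hm, rfl⟩
    · exact ⟨1, M.one_mem, by group⟩
    · rintro a b _ _ ⟨m, hm, rfl⟩ ⟨m', hm', rfl⟩
      refine ⟨m * m', M.mul_mem hm hm', ?_⟩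
      have e1 : m⁻¹ * (c * m' * c⁻¹) = (c * m' * c⁻¹) * m⁻¹ :=
        h.comm _ (M.inv_mem hm) _ (hMconj c m' hm')
      have e2 : m⁻¹ * m'⁻¹ = m'⁻¹ * m⁻¹ := h.comm _ (M.inv_mem hm) _ (M.inv_mem hm')
      calc c * m * c⁻¹ * m⁻¹ * (c * m' * c⁻¹ * m'⁻¹)
          = c * m * c⁻¹ * (m⁻¹ * (c * m' * c⁻¹)) * m'⁻¹ := by group
        _ = c * m * c⁻¹ * ((c * m' * c⁻¹) * m⁻¹) * m'⁻¹ := by rw [e1]
        _ = c * (m * m') * c⁻¹ * (m⁻¹ * m'⁻¹) := by group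
        _ = c * (m * m') * c⁻¹ * (m'⁻¹ * m⁻¹) := by rw [e2]
        _ = c * (m * m') * c⁻¹ * (m * m')⁻¹ := by group
    · rintro a _ ⟨m, hm, rfl⟩
      refine ⟨m⁻¹, M.inv_mem hm, ?_⟩
      have e1 : m * (c * m⁻¹ * c⁻¹) = (c * m⁻¹ * c⁻¹) * m :=
        h.comm _ hm _ (hMconj c _ (M.inv_mem hm))
      calc (c * m * c⁻¹ * m⁻¹)⁻¹ = m * (c * m⁻¹ * c⁻¹) := by group
        _ = (c * m⁻¹ * c⁻¹) * m := e1
        _ = c * m⁻¹ * c⁻¹ * m⁻¹⁻¹ := by group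
  have hUM : Uc ≤ M := by
    intro u hu
    obtain ⟨m, hm, rfl⟩ := hUrep u hu
    exact M.mul_mem (hMconj c m hm) (M.inv_mem hm)
  have hUW : Uc ≤ W := by
    intro u hu
    obtain ⟨m, hm, rfl⟩ := hUrep u hu
    exact ((mem_Nsub M W c).mp hcN).2.2.1 m hm
  have hUconj : ∀ u ∈ Uc, c * u * c⁻¹ ∈ Uc := by
    intro u hu
    obtain ⟨m, hm, rfl⟩ := hUrep u hu
    have h1 := hUgen _ (hMconj c m hm)
    have e : c * (c * m * c⁻¹) * c⁻¹ * (c * m * c⁻¹)⁻¹ = c * (c * m * c⁻¹ * m⁻¹) * c⁻¹ := by group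
    rw [e] at h1; exact h1
  have hc7 : c ^ 7 ∈ CM := hcp
  have hsq' : ∀ u ∈ M, u * u = 1 := fun u hu => by
    have h1 := h.sq u hu
    rwa [pow_two] at h1
  have hUfpf : ∀ u ∈ Uc, c * u * c⁻¹ = u → u = 1 := by
    intro u hu hfix
    obtain ⟨m, hm, hum⟩ := hUrep u hu
    have hcm : c * m * c⁻¹ = u * m := by rw [hum]; group
    have hind : ∀ i : ℕ, c ^ i * m * (c ^ i)⁻¹ = u ^ i * m := by
      intro i
      induction i with
      | zero => simp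
      | succ i ih =>
        calc c ^ (i + 1) * m * (c ^ (i + 1))⁻¹ = c * (c ^ i * m * (c ^ i)⁻¹) * c⁻¹ := by
              rw [pow_succ']; group
          _ = c * (u ^ i * m) * c⁻¹ := by rw [ih]
          _ = (c * u * c⁻¹) ^ i * (c * m * c⁻¹) := by rw [conj_pow]; group
          _ = u ^ i * (u * m) := by rw [hfix, hcm]
          _ = u ^ (i + 1) * m := by rw [pow_succ]; group
    have h7 := hind 7
    rw [(hCM _).mp hc7 m hm] at h7
    have hu7 : u ^ 7 = 1 := by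
      have e : u ^ 7 = (u ^ 7 * m) * m⁻¹ := by group
      rw [e, ← h7]; group
    have hu2 := hsq' u (hUM hu)
    calc u = u ^ 7 * ((u * u) * (u * u) * (u * u))⁻¹ := by group
      _ = 1 := by rw [hu7, hu2]; group
  have hUne : ∃ u ∈ Uc, u ≠ 1 := by
    by_contra hcon
    push Not at hcon
    apply hcC
    rw [hCM]
    intro m hm
    have h1 := hcon _ (hUgen m hm)
    calc c * m * c⁻¹ = (c * m * c⁻¹ * m⁻¹) * m := by group
      _ = m := by rw [h1, one_mul]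
  -- the order of `U`
  have hU2 : IsPGroup 2 ↥Uc := by
    intro u
    refine ⟨1, ?_⟩
    apply Subtype.ext
    have h1 := h.sq (u : S) (hUM u.2)
    simpa using h1
  obtain ⟨e, he⟩ := IsPGroup.exists_card_eq hU2
  have hUle : Nat.card ↥Uc ≤ 16 := le_trans (Subgroup.card_le_of_le hUW) hW16
  have hmod : Nat.card ↥Uc ≡ 1 [MOD 7] := by
    haveI : Fintype ↥Uc := Fintype.ofFinite _
    obtain ⟨f, hfdef⟩ : ∃ f : Function.End ↥Uc, f = fun u => ⟨c * (u : S) * c⁻¹, hUconj u u.2⟩ :=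
      ⟨_, rfl⟩
    have hfi : ∀ i : ℕ, ∀ u : ↥Uc, (((f ^ i) u : ↥Uc) : S) = c ^ i * (u : S) * (c ^ i)⁻¹ := by
      intro i
      induction i with
      | zero =>
        intro u
        rw [pow_zero, pow_zero]
        show ((u : ↥Uc) : S) = 1 * (u : S) * 1⁻¹
        group
      | succ i ih =>
        intro u
        have e1 : (f ^ (i + 1)) u = (f ^ i) (f u) := by
          rw [pow_succ]; rfl
        rw [e1, ih, hfdef, pow_succ]
        show c ^ i * (c * (u : S) * c⁻¹) * (c ^ i)⁻¹ = c ^ i * c * (u : S) * (c ^ i * c)⁻¹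
        group
    have hf7 : f ^ 7 ^ 1 = 1 := by
      rw [pow_one]
      funext u
      apply Subtype.ext
      rw [hfi 7 u]
      exact (hCM _).mp hc7 _ (hUM u.2)
    have h1 := Equiv.Perm.card_fixedPoints_modEq (p := 7) (n := 1) hf7
    rw [Fintype.card_eq_nat_card, Fintype.card_eq_nat_card] at h1
    have h2 : Nat.card (Function.fixedPoints f) = 1 := by
      rw [Nat.card_eq_one_iff_exists]
      refine ⟨⟨1, ?_⟩, ?_⟩
      · show f 1 = 1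
        rw [hfdef]
        apply Subtype.ext
        show c * ((1 : ↥Uc) : S) * c⁻¹ = ((1 : ↥Uc) : S)
        simp
      · rintro ⟨u, hu⟩
        apply Subtype.ext
        apply Subtype.ext
        have h3 : f u = u := hu
        rw [hfdef] at h3
        have h4 := congrArg Subtype.val h3
        exact hUfpf _ u.2 h4
    rw [h2] at h1
    exact h1
  have hcard8 : Nat.card ↥Uc = 8 := by
    rw [he] at hmod hUle
    have he4 : e ≤ 4 := by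
      by_contra hne
      have h5 : 5 ≤ e := by omega
      have h6 : 2 ^ 5 ≤ 2 ^ e := Nat.pow_le_pow_right (by norm_num) h5
      omega
    have he0 : e ≠ 0 := by
      rintro rfl
      obtain ⟨u, hu, hu1⟩ := hUne
      have h1 : Nat.card ↥Uc = 1 := by rw [he]; rfl
      have h2 := Subgroup.card_eq_one.mp h1
      rw [h2] at hu
      exact hu1 (Subgroup.mem_bot.mp hu)
    rw [he]
    interval_cases e
    · exact absurd rfl he0
    · exfalso; revert hmod; decide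
    · exfalso; revert hmod; decide
    · rfl
    · exfalso; revert hmod; decide
  refine ⟨rfl, hc7, hcard8, ?_⟩
  -- `V ≤ U`
  have hUpow : ∀ i : ℕ, ∀ m ∈ M, c ^ i * m * (c ^ i)⁻¹ * m⁻¹ ∈ Uc := by
    intro i
    induction i with
    | zero => intro m _; simp
    | succ i ih =>
      intro m hm
      have h1 := hUconj _ (ih m hm)
      have h2 := hUgen m hm
      have e : c ^ (i + 1) * m * (c ^ (i + 1))⁻¹ * m⁻¹
          = c * (c ^ i * m * (c ^ i)⁻¹ * m⁻¹) * c⁻¹ * (c * m * c⁻¹ * m⁻¹) := by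
        rw [pow_succ']; group
      rw [e]; exact Uc.mul_mem h1 h2
  have hdact : ∀ m ∈ M, d * m * d⁻¹ = c ^ k * m * (c ^ k)⁻¹ := by
    intro m hm
    have h1 := (hCM _).mp hk m hm
    have e : d * m * d⁻¹ = c ^ k * ((c ^ k)⁻¹ * d * m * ((c ^ k)⁻¹ * d)⁻¹) * (c ^ k)⁻¹ := by group
    rw [e, h1]
  have hxU : ∀ u ∈ Uc, x * u * x⁻¹ ∈ Uc := by
    intro u hu
    obtain ⟨m, hm, rfl⟩ := hUrep u hu
    have hm' : x * m * x⁻¹ ∈ M := hMconj x m hm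
    have h1 := hUpow k _ hm'
    rw [← hdact _ hm', hddef] at h1
    have e : x * c * x⁻¹ * (x * m * x⁻¹) * (x * c * x⁻¹)⁻¹ * (x * m * x⁻¹)⁻¹
        = x * (c * m * c⁻¹ * m⁻¹) * x⁻¹ := by group
    rw [e] at h1; exact h1
  have hirr := Cfsg.Agent.Helper36.NGFACTS.ng_V_irred h (V ⊓ Uc) inf_le_left (by
    intro v hv
    exact ⟨Cfsg.Agent.Helper36.NGFACTS.ng_V_conj h v hv.1, hxU v hv.2⟩)
  rcases hirr with hbot | hV
  · exfalso
    have hxfix : ∀ u ∈ Uc, x * u * x⁻¹ = u := by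
      intro u hu
      have h1 : x * u * x⁻¹ * u⁻¹ ∈ V ⊓ Uc :=
        ⟨(h.hV _).mpr ⟨u, hUM hu, rfl⟩, Uc.mul_mem (hxU u hu) (Uc.inv_mem hu)⟩
      rw [hbot] at h1
      have h2 := Subgroup.mem_bot.mp h1
      calc x * u * x⁻¹ = (x * u * x⁻¹ * u⁻¹) * u := by group
        _ = u := by rw [h2, one_mul]
    have hxfix' : ∀ u ∈ Uc, x⁻¹ * u * x = u := by
      intro u hu
      have h1 := hxfix u hu
      calc x⁻¹ * u * x = x⁻¹ * (x * u * x⁻¹) * x := by rw [h1]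
        _ = u := by group
    have hck : ∀ u ∈ Uc, c ^ k * u * (c ^ k)⁻¹ = c * u * c⁻¹ := by
      intro u hu
      rw [← hdact u (hUM hu), hddef]
      calc x * c * x⁻¹ * u * (x * c * x⁻¹)⁻¹ = x * (c * (x⁻¹ * u * x) * c⁻¹) * x⁻¹ := by group
        _ = x * (c * u * c⁻¹) * x⁻¹ := by rw [hxfix' u hu]
        _ = c * u * c⁻¹ := hxfix _ (hUconj u hu)
    have hk1 : 1 ≤ k := by omega
    obtain ⟨j, hj⟩ : ∃ j, k = j + 1 := ⟨k - 1, by omega⟩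
    have hcj : ∀ u ∈ Uc, c ^ j * u * (c ^ j)⁻¹ = u := by
      intro u hu
      have h1 := hck u hu
      rw [hj, pow_succ'] at h1
      have e : c * c ^ j * u * (c * c ^ j)⁻¹ = c * (c ^ j * u * (c ^ j)⁻¹) * c⁻¹ := by group
      rw [e] at h1
      have h2 : c⁻¹ * (c * (c ^ j * u * (c ^ j)⁻¹) * c⁻¹) * c = c⁻¹ * (c * u * c⁻¹) * c := by rw [h1]
      have e3 : c⁻¹ * (c * (c ^ j * u * (c ^ j)⁻¹) * c⁻¹) * c = c ^ j * u * (c ^ j)⁻¹ := by group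
      have e4 : c⁻¹ * (c * u * c⁻¹) * c = u := by group
      rw [e3, e4] at h2; exact h2
    have hcja : ∀ a : ℕ, ∀ u ∈ Uc, c ^ (j * a) * u * (c ^ (j * a))⁻¹ = u := by
      intro a
      induction a with
      | zero => intro u _; simp
      | succ a ih =>
        intro u hu
        have e : c ^ (j * (a + 1)) * u * (c ^ (j * (a + 1)))⁻¹
            = c ^ j * (c ^ (j * a) * u * (c ^ (j * a))⁻¹) * (c ^ j)⁻¹ := by
          rw [Nat.mul_succ, pow_add]; group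
        rw [e, ih u hu, hcj u hu]
    obtain ⟨a, b, hab⟩ : ∃ a b : ℕ, j * a = 7 * b + 1 := by
      rcases hk7 with h2 | h4
      · refine ⟨1, j / 7, ?_⟩
        omega
      · refine ⟨5, (5 * j) / 7, ?_⟩
        omega
    have hc7b : ∀ b : ℕ, c ^ (7 * b) ∈ CM := by
      intro b
      rw [pow_mul]
      exact CM.pow_mem hc7 b
    have hcfix : ∀ u ∈ Uc, c * u * c⁻¹ = u := by
      intro u hu
      have h1 := hcja a u hu
      rw [hab, pow_succ] at h1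
      have e : c ^ (7 * b) * c * u * (c ^ (7 * b) * c)⁻¹
          = c ^ (7 * b) * (c * u * c⁻¹) * (c ^ (7 * b))⁻¹ := by group
      rw [e, (hCM _).mp (hc7b b) _ (hUM (hUconj u hu))] at h1
      exact h1
    obtain ⟨u, hu, hu1⟩ := hUne
    exact hu1 (hUfpf u hu (hcfix u hu))
  · exact inf_eq_left.mp hV

end Cfsg.Agent.Helper63.NGP6A
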