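import Mathlib

set_option autoImplicit false

/-!
# CALL NP (helper13, row S5989): piece ARITH8 (double by helper63)
-/

namespace Cfsg.Agent.Helper63.NP5989

/-- ARITH8 [S-M, pure Nat]: `q` odd: `q^(d-1)` is odd, `q² ≡ 1 (mod 8)`, so `q^d ≡ 1` or `q (mod 8)`. -/
theorem np_arith8 (q d : ℕ) (hq : Odd q) (hd : 1 ≤ d) :
    (8 ∣ q ^ (d - 1) * (q ^ d - 1)) ↔ (Even d ∨ q % 8 = 1) := by
  have hcop : Nat.Coprime 8 (q ^ (d - 1)) := by
    have h2 : Nat.Coprime 2 (q ^ (d - 1)) := (Nat.coprime_two_left.mpr hq).pow_right _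
    exact Nat.Coprime.pow_left 3 h2
  rw [hcop.dvd_mul_left]
  have hpos : 1 ≤ q ^ d := Nat.one_le_pow _ _ hq.pos
  have key : 8 ∣ q ^ d - 1 ↔ q ^ d % 8 = 1 := by omega
  rw [key]
  have hq2 : q ^ 2 % 8 = 1 := by
    have h8 : q % 8 = 1 ∨ q % 8 = 3 ∨ q % 8 = 5 ∨ q % 8 = 7 := by
      rcases hq with ⟨k, rfl⟩; omega
    rw [Nat.pow_mod]; rcases h8 with h | h | h | h <;> rw [h]
  rcases Nat.even_or_odd d with ⟨k, hk⟩ | ⟨k, hk⟩
  · have h1 : q ^ d % 8 = 1 := by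
      rw [hk, ← two_mul, pow_mul, Nat.pow_mod, hq2]; simp
    have he : Even d := ⟨k, hk⟩
    simp [h1, he]
  · have h1 : q ^ d % 8 = q % 8 := by
      rw [hk, pow_succ, pow_mul, Nat.mul_mod, Nat.pow_mod, hq2]; simp
    rw [h1]
    have hnot : ¬ Even d := by rw [Nat.not_even_iff_odd]; exact ⟨k, hk⟩
    simp [hnot]

end Cfsg.Agent.Helper63.NP5989
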