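import Mathlib
import Cfsg.Prelude.Def_GeometricClasses
import Cfsg.Prelude.Def_Classical

set_option autoImplicit false

/-!
# CALL NP (helper13, row S5989): piece EXD (double by helper63)
-/

namespace Cfsg.Agent.Helper63.NP5989

open Module Cfsg Cfsg.Geo
open scoped MatrixGroups

universe u

variable {F : Type u} [Field F] [Fintype F]

/-- EXD [M]: `ι₀² = -1`: `g = Matrix.diagonal (Sum.elim (fun _ => ι₀) (fun _ => -ι₀))`; inverse `-g`. -/
theorem np_ex_sq (d : ℕ) (hsq : IsSquare (-1 : F)) :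
    ∃ g : GL (Fin d ⊕ Fin d) F, g ∈ Cfsg.isometryGroup F (Cfsg.quadFormPlus d F) ∧
      (g : Matrix (Fin d ⊕ Fin d) (Fin d ⊕ Fin d) F) *
        (g : Matrix (Fin d ⊕ Fin d) (Fin d ⊕ Fin d) F) = -1 := by
  obtain ⟨ι₀, hι⟩ := hsq
  set s : Fin d ⊕ Fin d → F := Sum.elim (fun _ => ι₀) (fun _ => -ι₀) with hs
  have hss : ∀ i, s i * s i = -1 := by
    rintro (i | i) <;> simp [hs, ← hι]
  have hgg : Matrix.diagonal s * Matrix.diagonal s =
      (-1 : Matrix (Fin d ⊕ Fin d) (Fin d ⊕ Fin d) F) := by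
    rw [Matrix.diagonal_mul_diagonal]
    rw [show (fun i => s i * s i) = fun _ => (-1 : F) from funext hss]
    ext a b
    by_cases hab : a = b
    · subst hab; simp
    · simp [hab]
  refine ⟨⟨Matrix.diagonal s, -Matrix.diagonal s, ?_, ?_⟩, ?_, hgg⟩
  · rw [mul_neg, hgg, neg_neg]
  · rw [neg_mul, hgg, neg_neg]
  · intro u v
    show Cfsg.quadFormPlus d F (Matrix.mulVec (Matrix.diagonal s) u) = Cfsg.quadFormPlus d F u
    unfold Cfsg.quadFormPlus
    refine Finset.sum_congr rfl fun i _ => ?_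
    rw [Matrix.mulVec_diagonal, Matrix.mulVec_diagonal]
    have h1 : s (Sum.inl i) * s (Sum.inr i) = 1 := by simp [hs, ← hι]
    calc s (Sum.inl i) * u (Sum.inl i) * (s (Sum.inr i) * u (Sum.inr i))
        = (s (Sum.inl i) * s (Sum.inr i)) * (u (Sum.inl i) * u (Sum.inr i)) := by ring
      _ = u (Sum.inl i) * u (Sum.inr i) := by rw [h1, one_mul]

end Cfsg.Agent.Helper63.NP5989
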