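import Mathlib

set_option autoImplicit false

/-!
# Sub-CALL S90T2 (helper98) of CALL S90 (row S5990): piece ARITH (double by helper63)
-/

namespace Cfsg.Agent.Helper63.S90T2

/-- ARITH [M, pure ℕ]: choose `e' := 1 + 2 e''`; `t - 1 = 2 u + h'` with `u = a' + e''`.  If `t` is
odd: `h' = 0` or fill with `h`; if `d` is even then `h` is odd (`e` odd), so a hyperbolic plane fixes
the parity. -/
theorem t2_arith (d t A h e : ℕ) (hsum : 2 * A + h + e = d) (he : Odd e) (ht1 : 1 ≤ t)
    (htd : t + 1 ≤ d) (hcond : Even d ∨ Odd t) :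
    ∃ a' h' e', a' ≤ A ∧ h' ≤ h ∧ e' ≤ e ∧ Odd e' ∧ 2 * a' + h' + e' = t := by
  rw [Nat.odd_iff] at he
  have hc : d % 2 = 0 ∨ t % 2 = 1 := by
    rcases hcond with h1 | h1
    · left; exact Nat.even_iff.mp h1
    · right; exact Nat.odd_iff.mp h1
  simp only [Nat.odd_iff]
  by_cases hto : t % 2 = 1
  · by_cases h1 : t ≤ e
    · exact ⟨0, 0, t, by omega, by omega, h1, hto, by omega⟩
    · by_cases h3 : (t - e) / 2 ≤ A
      · exact ⟨(t - e) / 2, 0, e, h3, by omega, le_refl _, he, by omega⟩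
      · exact ⟨A, t - e - 2 * A, e, le_refl _, by omega, le_refl _, he, by omega⟩
  · have hd : d % 2 = 0 := by omega
    have hh : h % 2 = 1 := by omega
    by_cases h1 : t - 1 ≤ e
    · exact ⟨0, 1, t - 1, by omega, by omega, h1, by omega, by omega⟩
    · by_cases h3 : (t - e - 1) / 2 ≤ A
      · exact ⟨(t - e - 1) / 2, 1, e, h3, by omega, le_refl _, he, by omega⟩
      · exact ⟨A, t - e - 2 * A, e, le_refl _, by omega, le_refl _, he, by omega⟩

end Cfsg.Agent.Helper63.S90T2
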