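import Mathlib
import Cfsg.Prelude.Def_GeometricClasses
import Cfsg.Prelude.Def_Classical

set_option autoImplicit false

/-!
# Sub-CALL S90T2 (helper98) of CALL S90 (row S5990): piece ZONE (double by helper63)
-/

namespace Cfsg.Agent.Helper63.S90T2

open Module Matrix Cfsg Cfsg.Geo
open scoped MatrixGroups

variable {ι : Type} [Fintype ι] [DecidableEq ι] {F : Type*} [Field F]

/-- ZONE [S]: in characteristic `2` an isometry with scalar square is an involution
(`Cfsg.Agent.Helper70` `r2_z`: `z = 1 ∨ z = -1`, Helper70/TSR2Z.lean; `-1 = 1`). -/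
theorem t2_sq_one (Q : (ι → F) → F) (hQ : IsNondegenerateQuadraticForm Q) (h2 : (2 : F) = 0)
    (hne : Nonempty ι) (x : GL ι F) (hx : x ∈ Cfsg.isometryGroup F Q) (z : F)
    (hz : ((x ^ 2 : GL ι F) : Matrix ι ι F) = z • (1 : Matrix ι ι F)) :
    (Matrix.toLin' (x : Matrix ι ι F)) * (Matrix.toLin' (x : Matrix ι ι F)) = 1 := by
  classical
  have hM : ∀ v, Q ((x : Matrix ι ι F).mulVec v) = Q v := fun v => hx v v
  have hz' : (x : Matrix ι ι F) * (x : Matrix ι ι F) = z • (1 : Matrix ι ι F) := by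
    rw [← hz, pow_two, Units.val_mul]
  have hz1 : z = 1 := by
    obtain ⟨i⟩ := hne
    have hw0 : (Pi.single i (1 : F) : ι → F) ≠ 0 := by
      intro h
      have := congrFun h i
      simp at this
    obtain ⟨-, y, hy⟩ := hQ.nondegenerate _ hw0
    have hex : ∃ v : ι → F, Q v ≠ 0 := by
      by_contra hcon
      push Not at hcon
      apply hy
      unfold QuadraticMap.polar
      rw [hcon, hcon, hcon]; ring
    obtain ⟨v, hv⟩ := hex
    have h1 : Q ((x : Matrix ι ι F).mulVec ((x : Matrix ι ι F).mulVec v)) = Q v := by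
      rw [hM, hM]
    rw [Matrix.mulVec_mulVec, hz', Matrix.smul_mulVec, Matrix.one_mulVec, hQ.smul] at h1
    have h4 : (z ^ 2 - 1) * Q v = 0 := by linear_combination h1
    have h5 : z ^ 2 - 1 = 0 := by
      rcases mul_eq_zero.mp h4 with h5 | h5
      · exact h5
      · exact absurd h5 hv
    have h6 : (z - 1) ^ 2 = 0 := by linear_combination h5 + (1 - z) * h2
    have h7 : z - 1 = 0 := (pow_eq_zero_iff (by norm_num : (2 : ℕ) ≠ 0)).mp h6
    linear_combination h7
  rw [hz1, one_smul] at hz'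
  rw [Module.End.mul_eq_comp, ← Matrix.toLin'_mul, hz', Matrix.toLin'_one]
  rfl

end Cfsg.Agent.Helper63.S90T2
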