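import Mathlib

/-!
# CALL SL2L (helper2): piece G7a (double by helper63)
-/

set_option autoImplicit false

namespace Cfsg.Agent.Helper63

open Subgroup

universe u

variable {Γ : Type u} [Group Γ] [Finite Γ]

/-- PIECE G7a: `p ∣ lam² - 1` gives `p ∣ lam - 1` or `p ∣ lam + 1`.  First case: `d ^ lam = d (d ^ p) ^ m`,
so `k d k⁻¹ = d z`.  Second case: `d ^ lam = (d ^ p) ^ m d⁻¹`, `k d k⁻¹ = d⁻¹ z'` and then
`k² d k⁻² = (d⁻¹ z')⁻¹ z' = d = d * 1`. -/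
theorem sl2l_reduce {p : ℕ} (hp : p.Prime) {Z : Subgroup Γ} {k d z₁ : Γ} {lam : ℕ}
    (hdp : d ^ p ∈ Z) (hz₁ : z₁ ∈ Z) (hZd : ∀ z ∈ Z, z * d = d * z)
    (hkZ : ∀ z ∈ Z, k * z = z * k) (hkd : k * d * k⁻¹ = d ^ lam * z₁)
    (hlam : p ∣ lam ^ 2 - 1) (hlam1 : 1 ≤ lam) :
    ∃ z ∈ Z, (k * d * k⁻¹ = d * z ∨ k ^ 2 * d * (k ^ 2)⁻¹ = d * z) := by
  have hfac : lam ^ 2 - 1 = (lam - 1) * (lam + 1) := by
    obtain ⟨n, rfl⟩ : ∃ n, lam = n + 1 := ⟨lam - 1, by omega⟩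
    have h0 : (n + 1) ^ 2 = n * (n + 1 + 1) + 1 := by ring
    rw [h0]
    simp
  rw [hfac] at hlam
  rcases (Nat.Prime.dvd_mul hp).mp hlam with ⟨m, hm⟩ | ⟨m, hm⟩
  · have hl : lam = 1 + p * m := by omega
    refine ⟨(d ^ p) ^ m * z₁, Z.mul_mem (Z.pow_mem hdp m) hz₁, Or.inl ?_⟩
    rw [hkd, hl, pow_add, pow_one, pow_mul, mul_assoc]
  · obtain ⟨v, hvdef⟩ : ∃ v, v = (d ^ p) ^ m := ⟨_, rfl⟩
    have hv : v ∈ Z := by rw [hvdef]; exact Z.pow_mem hdp m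
    have h1 : d ^ lam * d = v := by rw [hvdef, ← pow_succ, hm, pow_mul]
    have h2 : v * d = d * v := hZd v hv
    have hdl : d ^ lam = d⁻¹ * v := by
      calc d ^ lam = d ^ lam * d * d⁻¹ := by group
        _ = v * d⁻¹ := by rw [h1]
        _ = d⁻¹ * (d * v) * d⁻¹ := by group
        _ = d⁻¹ * (v * d) * d⁻¹ := by rw [h2]
        _ = d⁻¹ * v := by group
    obtain ⟨z', hz'def⟩ : ∃ z', z' = v * z₁ := ⟨_, rfl⟩
    have hz' : z' ∈ Z := by rw [hz'def]; exact Z.mul_mem hv hz₁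
    have hkd' : k * d * k⁻¹ = d⁻¹ * z' := by rw [hkd, hdl, hz'def, mul_assoc]
    have hkz' : k * z' = z' * k := hkZ z' hz'
    have hz'd : z' * d = d * z' := hZd z' hz'
    refine ⟨1, Z.one_mem, Or.inr ?_⟩
    rw [mul_one]
    have h3 : k ^ 2 * d * (k ^ 2)⁻¹ = k * (k * d * k⁻¹) * k⁻¹ := by
      rw [pow_two, mul_inv_rev]
      simp only [mul_assoc]
    have h4 : k * (d⁻¹ * z') * k⁻¹ = (k * d * k⁻¹)⁻¹ * (k * z' * k⁻¹) := by group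
    have h5 : (d⁻¹ * z')⁻¹ * (z' * k * k⁻¹) = z'⁻¹ * (d * z') := by group
    rw [h3, hkd', h4, hkd', hkz', h5, ← hz'd, inv_mul_cancel_left]

end Cfsg.Agent.Helper63
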